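import Cfsg.Agent.R2.F4L.Act
import Cfsg.Agent.R2.F4L.Rules
import Cfsg.Agent.R2.H1.F4.E4

/-!
# S5931, theta types: the exceptional cases (helper27)

`core7`, `core11` : `N(Y, Y, X) = 0` for `J₀ = X ⊥ Y` by the weights of a torus element and the identities of the Albert algebra.
-/

set_option autoImplicit false
set_option linter.unusedSectionVars false

namespace Cfsg.Agent.R2.H27.F4Th

open Cfsg.Lie
open Cfsg.Agent.ChevalleyStructure.E6Min.Tables Cfsg.Agent.ChevalleyStructure.E6Min.Basic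
open Cfsg.Agent.H952.F4 (sh cr tf tr1 u0)
open Cfsg.Agent.H952.F4.Jord
open Cfsg.Agent.R2.F4L Cfsg.Agent.R2.H1.F4

universe u

section

variable {k : Type u} [Field k] {V : Type*} [AddCommGroup V] [Module k V]

theorem bil_zero (f : V →ₗ[k] V →ₗ[k] k) {S T : Set V} (h : ∀ s ∈ S, ∀ t ∈ T, f s t = 0) {x y : V}
    (hx : x ∈ Submodule.span k S) (hy : y ∈ Submodule.span k T) : f x y = 0 := by
  have h1 : ∀ s ∈ S, f s y = 0 := fun s hs => by
    have h2 : Submodule.span k T ≤ LinearMap.ker (f s) := Submodule.span_le.2 fun t ht => LinearMap.mem_ker.2 (h s hs t ht)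
    exact LinearMap.mem_ker.1 (h2 hy)
  have h2 : Submodule.span k S ≤ LinearMap.ker (f.flip y) := Submodule.span_le.2 fun s hs => LinearMap.mem_ker.2 (h1 s hs)
  exact LinearMap.mem_ker.1 (h2 hx)

end

variable {k : Type u} [Field k]

/-- the form `N(·, ·, z)` -/
noncomputable def nz (z : I27 → k) : (I27 → k) →ₗ[k] (I27 → k) →ₗ[k] k :=
  LinearMap.mk₂ k (fun x y => tf (st x y) z) (fun x x' y => by rw [st_add_left, tf_add_left])
    (fun c x y => by rw [st_smul_left, tf_smul_left, smul_eq_mul]) (fun x y y' => by rw [st_add_right, tf_add_left])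
    (fun c x y => by rw [st_smul_right, tf_smul_left, smul_eq_mul])

theorem nz_apply (x y z : I27 → k) : nz z x y = tf (st x y) z := rfl

theorem nz_comm (x y z : I27 → k) : nz z x y = nz z y x := by rw [nz_apply, nz_apply, st_comm]

variable {A : Type*} [Group A] {ρ : Representation k A (I27 → k)}

theorem act_st (H : Act ρ) (g : A) (x y : I27 → k) : ρ g (st x y) = st (ρ g x) (ρ g y) := by
  unfold st
  rw [map_add, map_smul, H.cr, H.u0, H.tf]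

theorem nz_inv (H : Act ρ) (g : A) (x y z : I27 → k) : nz (ρ g z) (ρ g x) (ρ g y) = nz z x y := by
  rw [nz_apply, nz_apply, ← act_st H, H.tf]

theorem nz_inv' (H : Act ρ) (g : A) (x y z : I27 → k) : nz (ρ g z) x y = nz z (ρ g⁻¹ x) (ρ g⁻¹ y) := by
  have h : ∀ v, ρ g (ρ g⁻¹ v) = v := fun v => by
    rw [← Module.End.mul_apply, ← map_mul, mul_inv_cancel, map_one, Module.End.one_apply]
  have h1 := nz_inv H g (ρ g⁻¹ x) (ρ g⁻¹ y) z
  rw [h, h] at h1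
  exact h1

/-- the third argument -/
theorem ext_X (H : Act ρ) {U U' X : Submodule k (I27 → k)} (hU : ∀ g, ∀ x ∈ U, ρ g x ∈ U) (hU' : ∀ g, ∀ x ∈ U', ρ g x ∈ U')
    (hXs : ∀ g, ∀ x ∈ X, ρ g x ∈ X) (hX : ∀ Z ≤ X, (∀ g, ∀ x ∈ Z, ρ g x ∈ Z) → Z = ⊥ ∨ Z = X) {xl : I27 → k} (hxl : xl ∈ X)
    (hxl0 : xl ≠ 0) (h : ∀ x ∈ U, ∀ y ∈ U', nz xl x y = 0) : ∀ z ∈ X, ∀ x ∈ U, ∀ y ∈ U', nz z x y = 0 := by
  let Z : Submodule k (I27 → k) :=
    { carrier := {z | z ∈ X ∧ ∀ x ∈ U, ∀ y ∈ U', nz z x y = 0}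
      add_mem' := fun {z z'} hz hz' => ⟨X.add_mem hz.1 hz'.1, fun x hx y hy => by
        have h1 := hz.2 x hx y hy
        have h2 := hz'.2 x hx y hy
        rw [nz_apply] at h1 h2 ⊢
        rw [tf_add_right, h1, h2, add_zero]⟩
      zero_mem' := ⟨X.zero_mem, fun x hx y hy => by
        have h1 := tf_smul_right (0 : k) (st x y) 0
        rw [zero_smul, zero_mul] at h1
        exact h1⟩
      smul_mem' := fun c z hz => ⟨X.smul_mem c hz.1, fun x hx y hy => by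
        have h1 := hz.2 x hx y hy
        rw [nz_apply] at h1 ⊢
        rw [tf_smul_right, h1, mul_zero]⟩ }
  have hZX : Z ≤ X := fun z hz => hz.1
  have hZs : ∀ g, ∀ x ∈ Z, ρ g x ∈ Z := fun g z hz => ⟨hXs g z hz.1, fun x hx y hy => by
    rw [nz_inv' H]
    exact hz.2 _ (hU _ x hx) _ (hU' _ y hy)⟩
  have hmem : xl ∈ Z := ⟨hxl, h⟩
  rcases hX Z hZX hZs with h1 | h1
  · rw [h1, Submodule.mem_bot] at hmem
    exact absurd hmem hxl0
  · intro z hz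
    rw [← h1] at hz
    exact hz.2

/-- weights -/
def Wg (ρ : Representation k A (I27 → k)) (g : A) (α : k) (w : ℤ) (v : I27 → k) : Prop := ρ g v = α ^ w • v

theorem nz_wt (H : Act ρ) {g : A} {α : k} {N : ℕ} (hα : IsPrimitiveRoot α N) (hα0 : α ≠ 0) {x y z : I27 → k} {w₁ w₂ w₃ : ℤ}
    (h1 : Wg ρ g α w₁ x) (h2 : Wg ρ g α w₂ y) (h3 : Wg ρ g α w₃ z) (h0 : w₁ + w₂ + w₃ ≠ 0) (hl : w₁ + w₂ + w₃ < N)
    (hl' : -(w₁ + w₂ + w₃) < N) : nz z x y = 0 := by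
  have h4 := nz_inv H g x y z
  unfold Wg at h1 h2 h3
  rw [h1, h2, h3, nz_apply, nz_apply, st_smul_left, st_smul_right, tf_smul_left, tf_smul_left, tf_smul_right] at h4
  have h5 : α ^ (w₁ + w₂ + w₃) ≠ 1 := by
    intro h
    have h6 := (hα.zpow_eq_one_iff_dvd _).1 h
    have h7 := Int.eq_zero_of_abs_lt_dvd h6 (by rw [abs_lt]; constructor <;> omega)
    exact h0 h7
  rw [nz_apply]
  have h6 : (α ^ (w₁ + w₂ + w₃) - 1) * tf (st x y) z = 0 := by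
    rw [zpow_add₀ hα0, zpow_add₀ hα0]
    linear_combination h4
  exact (mul_eq_zero.1 h6).resolve_left (sub_ne_zero.2 h5)

theorem tf_wt (H : Act ρ) {g : A} {α : k} {N : ℕ} (hα : IsPrimitiveRoot α N) (hα0 : α ≠ 0) {x y : I27 → k} {w₁ w₂ : ℤ}
    (h1 : Wg ρ g α w₁ x) (h2 : Wg ρ g α w₂ y) (h0 : w₁ + w₂ ≠ 0) (hl : w₁ + w₂ < N)
    (hl' : -(w₁ + w₂) < N) : tf x y = 0 := by
  have h4 := H.tf g x y
  unfold Wg at h1 h2
  rw [h1, h2, tf_smul_left, tf_smul_right] at h4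
  have h5 : α ^ (w₁ + w₂) ≠ 1 := by
    intro h
    have h6 := (hα.zpow_eq_one_iff_dvd _).1 h
    have h7 := Int.eq_zero_of_abs_lt_dvd h6 (by rw [abs_lt]; constructor <;> omega)
    exact h0 h7
  have h6 : (α ^ (w₁ + w₂) - 1) * tf x y = 0 := by
    rw [zpow_add₀ hα0]
    linear_combination h4
  exact (mul_eq_zero.1 h6).resolve_left (sub_ne_zero.2 h5)

/-- the situation: `J₀ = X ⊥ Y`, `aa` a string of length five in `Y`, `xl` a vector of weight `-w0` in `X` -/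
structure Sit (ρ : Representation k A (I27 → k)) (g : A) (α : k) (N : ℕ) (w0 : ℤ) (S : ℤ → Prop)
    (X Y : Submodule k (I27 → k)) (xl : I27 → k) (aa : ℕ → I27 → k) : Prop where
  act : Act ρ
  two : (2 : k) ≠ 0
  three : (3 : k) ≠ 0
  prim : IsPrimitiveRoot α N
  ne : α ≠ 0
  big : 48 ≤ N
  trX : ∀ x ∈ X, tr1 x = 0
  trY : ∀ y ∈ Y, tr1 y = 0
  orth : ∀ x ∈ X, ∀ y ∈ Y, tf x y = 0
  memX : ∀ v, tr1 v = 0 → (∀ y ∈ Y, tf v y = 0) → v ∈ X
  memY : ∀ v, tr1 v = 0 → (∀ x ∈ X, tf v x = 0) → v ∈ Y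
  sX : ∀ g, ∀ x ∈ X, ρ g x ∈ X
  sY : ∀ g, ∀ x ∈ Y, ρ g x ∈ Y
  irX : ∀ Z ≤ X, (∀ g, ∀ x ∈ Z, ρ g x ∈ Z) → Z = ⊥ ∨ Z = X
  mxl : xl ∈ X
  nxl : xl ≠ 0
  wxl : Wg ρ g α (-w0) xl
  sA : ∀ g, ∀ x ∈ Submodule.span k (Set.range aa), ρ g x ∈ Submodule.span k (Set.range aa)
  a0 : ∀ s, 4 < s → aa s = 0
  aY : ∀ s, aa s ∈ Y
  wa : ∀ s : ℕ, s ≤ 4 → Wg ρ g α (2 * (s : ℤ) - 4) (aa s)
  spY : Y ≤ Submodule.span k {v | v ∈ Y ∧ ∃ w, S w ∧ Wg ρ g α w v}
  bd : ∀ w, S w → -8 ≤ w ∧ w ≤ 8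

variable {g : A} {α : k} {N : ℕ} {w0 : ℤ} {S : ℤ → Prop} {X Y : Submodule k (I27 → k)} {xl : I27 → k} {aa : ℕ → I27 → k}

theorem Sit.sp (T : Sit ρ g α N w0 S X Y xl aa) {x : I27 → k} (h : ∀ y, y ∈ Y → ∀ w, S w → Wg ρ g α w y → ∀ x', x' ∈ Y →
    ∀ w', S w' → Wg ρ g α w' x' → nz x y x' = 0) : ∀ y ∈ Y, ∀ y' ∈ Y, nz x y y' = 0 := by
  intro y hy y' hy'
  refine bil_zero (nz x) ?_ (T.spY hy) (T.spY hy')
  rintro s ⟨hs, w, hw, h1⟩ t ⟨ht, w', hw', h2⟩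
  exact h s hs w hw h1 t ht w' hw' h2

theorem Sit.aaA (_ : Sit ρ g α N w0 S X Y xl aa) (s : ℕ) : aa s ∈ Submodule.span k (Set.range aa) :=
  Submodule.subset_span ⟨s, rfl⟩

/-- `N(A, A, X) = 0` -/
theorem Sit.AAX (T : Sit ρ g α N w0 S X Y xl aa) (h8 : 8 < w0) (h16 : w0 ≤ 16) :
    ∀ z ∈ X, ∀ x ∈ Submodule.span k (Set.range aa), ∀ y ∈ Submodule.span k (Set.range aa), nz z x y = 0 := by
  have hN := T.big
  refine ext_X T.act T.sA T.sA T.sX T.irX T.mxl T.nxl fun x hx y hy => bil_zero (nz xl) ?_ hx hy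
  rintro _ ⟨s, rfl⟩ _ ⟨t, rfl⟩
  by_cases hs : s ≤ 4
  · by_cases ht : t ≤ 4
    · exact nz_wt T.act T.prim T.ne (T.wa s hs) (T.wa t ht) T.wxl (by omega) (by omega) (by omega)
    · rw [T.a0 t (by omega), map_zero]
  · rw [T.a0 s (by omega), map_zero, LinearMap.zero_apply]

/-- `A * A ≤ Y` -/
theorem Sit.AAY (T : Sit ρ g α N w0 S X Y xl aa) (h8 : 8 < w0) (h16 : w0 ≤ 16) (s t : ℕ) : st (aa s) (aa t) ∈ Y :=
  T.memY _ (tr1_st T.three (T.trY _ (T.aY s))) fun x hx => T.AAX h8 h16 x hx _ (T.aaA s) _ (T.aaA t)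

theorem Sit.aa44 (T : Sit ρ g α N w0 S X Y xl aa) : tf (aa 4) (aa 4) = 0 := by
  have hN := T.big
  have h := T.wa 4 le_rfl
  have e : (2 * ((4 : ℕ) : ℤ) - 4) = 4 := by norm_num
  rw [e] at h
  exact tf_wt T.act T.prim T.ne h h (by norm_num) (by omega) (by omega)

theorem Sit.cube (T : Sit ρ g α N w0 S X Y xl aa) : st (aa 4) (st (aa 4) (aa 4)) = 0 := by
  rw [st_cube T.two T.three (T.trY _ (T.aY 4)), T.aa44, mul_zero, zero_smul]

/-- **the case `p = 11`** -/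
theorem Sit.core11 (T : Sit ρ g α N 16 S X Y xl aa)
    (one8 : ∀ y ∈ Y, Wg ρ g α 8 y → ∃ c : k, y = c • st (aa 4) (aa 4)) : ∀ z ∈ X, ∀ x ∈ Y, ∀ y ∈ Y, nz z x y = 0 := by
  have hN := T.big
  refine ext_X T.act T.sY T.sY T.sX T.irX T.mxl T.nxl (T.sp fun y hy w hw h1 y' hy' w' hw' h2 => ?_)
  have b1 := T.bd w hw
  have b2 := T.bd w' hw'
  by_cases h : w + w' + -16 = 0
  · obtain rfl : w = 8 := by omega
    obtain rfl : w' = 8 := by omega
    obtain ⟨c, rfl⟩ := one8 y hy h1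
    obtain ⟨c', rfl⟩ := one8 y' hy' h2
    have tx := T.trX _ T.mxl
    have ta := T.trY _ (T.aY 4)
    have t8 : tr1 (st (aa 4) (aa 4)) = 0 := tr1_st T.three ta
    have hm8 : st (aa 4) (aa 4) ∈ Y := T.AAY (by norm_num) (by norm_num) 4 4
    have h3 := four T.two T.three ta ta t8 tx
    rw [T.aa44, T.cube] at h3
    have e1 : tf (aa 4) xl = 0 := by rw [tf_comm]; exact T.orth _ T.mxl _ (T.aY 4)
    have e2 : tf (st (aa 4) (aa 4)) xl = 0 := by rw [tf_comm]; exact T.orth _ T.mxl _ hm8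
    have e3 : ∀ v : I27 → k, tf 0 v = 0 := fun v => by
      have := tf_smul_left (0 : k) 0 v
      rwa [zero_smul, zero_mul] at this
    have e4 : ∀ v : I27 → k, tf v 0 = 0 := fun v => by rw [tf_comm, e3]
    rw [e1, e2, e3, e4] at h3
    have h4 : tf (st (aa 4) (aa 4)) (st (st (aa 4) (aa 4)) xl) = 0 := by linear_combination h3
    have h5 : nz xl (st (aa 4) (aa 4)) (st (aa 4) (aa 4)) = 0 := by
      rw [nz_apply, tf_st_rot t8 tx]
      exact h4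
    rw [map_smul, map_smul, LinearMap.smul_apply, h5, smul_zero, smul_zero]
  · exact nz_wt T.act T.prim T.ne h1 h2 T.wxl h (by omega) (by omega)

theorem tf_rot3 {x y z : I27 → k} (hx : tr1 x = 0) (hy : tr1 y = 0) (hz : tr1 z = 0) : tf (st x z) y = nz z x y := by
  rw [nz_apply, tf_st_rot hx hy, st_comm z y, tf_st_rot hx hz]

/-- `N(A, Y, X) = 0` -/
theorem Sit.AYX (T : Sit ρ g α N 12 S X Y xl aa)
    (one8 : ∀ y ∈ Y, Wg ρ g α 8 y → ∃ c : k, y = c • st (aa 4) (aa 4)) :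
    ∀ z ∈ X, ∀ x ∈ Submodule.span k (Set.range aa), ∀ y ∈ Y, nz z x y = 0 := by
  have hN := T.big
  refine ext_X T.act T.sA T.sY T.sX T.irX T.mxl T.nxl fun x hx y hy => bil_zero (nz xl) ?_ hx (T.spY hy)
  rintro _ ⟨s, rfl⟩ y ⟨hy, w, hw, h1⟩
  have b1 := T.bd w hw
  by_cases hs : s ≤ 4
  · by_cases h : 2 * (s : ℤ) - 4 + w + -12 = 0
    · obtain rfl : s = 4 := by omega
      obtain rfl : w = 8 := by omega
      obtain ⟨c, rfl⟩ := one8 y hy h1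
      have h2 := tf_smul_left (0 : k) 0 xl
      rw [zero_smul, zero_mul] at h2
      rw [map_smul, nz_apply, T.cube, h2, smul_zero]
    · exact nz_wt T.act T.prim T.ne (T.wa s hs) h1 T.wxl h (by omega) (by omega)
  · rw [T.a0 s (by omega), map_zero, LinearMap.zero_apply]

/-- `N(A * A, Y, X) = 0` -/
theorem Sit.A2YX (T : Sit ρ g α N 12 S X Y xl aa)
    (one8 : ∀ y ∈ Y, Wg ρ g α 8 y → ∃ c : k, y = c • st (aa 4) (aa 4)) (s t : ℕ) {y z : I27 → k} (hy : y ∈ Y) (hz : z ∈ X) :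
    nz z (st (aa s) (aa t)) y = 0 := by
  have ts := T.trY _ (T.aY s)
  have tt := T.trY _ (T.aY t)
  have ty := T.trY _ hy
  have tz := T.trX _ hz
  have mY : ∀ s, st (aa s) y ∈ Y := fun s =>
    T.memY _ (tr1_st T.three (T.trY _ (T.aY s))) fun x hx => T.AYX one8 x hx _ (T.aaA s) _ hy
  have mX : ∀ s, st (aa s) z ∈ X := fun s =>
    T.memX _ (tr1_st T.three (T.trY _ (T.aY s))) fun y' hy' => by
      rw [tf_rot3 (T.trY _ (T.aY s)) (T.trY _ hy') tz]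
      exact T.AYX one8 z hz _ (T.aaA s) _ hy'
  have h := four T.two T.three ts tt ty tz
  have e1 : tf y z = 0 := by rw [tf_comm]; exact T.orth _ hz _ hy
  have e2 : tf (aa t) z = 0 := by rw [tf_comm]; exact T.orth _ hz _ (T.aY t)
  have e3 : tf (aa s) z = 0 := by rw [tf_comm]; exact T.orth _ hz _ (T.aY s)
  have e4 : tf (st (aa s) y) (st (aa t) z) = 0 := by rw [tf_comm]; exact T.orth _ (mX t) _ (mY s)
  have e5 : tf (st (aa s) z) (st (aa t) y) = 0 := T.orth _ (mX s) _ (mY t)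
  rw [e1, e2, e3, e4, e5] at h
  rw [nz_apply, tf_st_rot (tr1_st T.three ts) tz]
  linear_combination h

/-- **the case `p = 7`** -/
theorem Sit.core7 (T : Sit ρ g α N 12 S X Y xl aa)
    (one8 : ∀ y ∈ Y, Wg ρ g α 8 y → ∃ c : k, y = c • st (aa 4) (aa 4)) (ev : ∀ w, S w → w % 2 = 0)
    (one6 : ∀ y ∈ Y, Wg ρ g α 6 y → ∃ c : k, y = c • st (aa 3) (aa 4)) : ∀ z ∈ X, ∀ x ∈ Y, ∀ y ∈ Y, nz z x y = 0 := by
  have hN := T.big
  refine ext_X T.act T.sY T.sY T.sX T.irX T.mxl T.nxl (T.sp fun y hy w hw h1 y' hy' w' hw' h2 => ?_)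
  have b1 := T.bd w hw
  have b2 := T.bd w' hw'
  have v1 := ev w hw
  have v2 := ev w' hw'
  by_cases h : w + w' + -12 = 0
  · have h3 : w = 8 ∨ w' = 8 ∨ w = 6 := by omega
    rcases h3 with rfl | rfl | rfl
    · obtain ⟨c, rfl⟩ := one8 y hy h1
      rw [map_smul, LinearMap.smul_apply, T.A2YX one8 4 4 hy' T.mxl, smul_zero]
    · obtain ⟨c, rfl⟩ := one8 y' hy' h2
      rw [nz_comm, map_smul, LinearMap.smul_apply, T.A2YX one8 4 4 hy T.mxl, smul_zero]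
    · obtain ⟨c, rfl⟩ := one6 y hy h1
      rw [map_smul, LinearMap.smul_apply, T.A2YX one8 3 4 hy' T.mxl, smul_zero]
  · exact nz_wt T.act T.prim T.ne h1 h2 T.wxl h (by omega) (by omega)

end Cfsg.Agent.R2.H27.F4Th
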