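import Cfsg.Agent.R2.F4N.CaseC
import Cfsg.Agent.R2.F4L.Act

/-!
# S5931, theta types: the weights of a torus element (helper27)

* `finrank_eig_cf` : the dimension of an eigenspace of `h lam` from the composition factors;
* `mf_single_le`, `mf_single_zero`, `mf_pair_le` : the multiplicities of the weights;
* `eig_wt` : eigenvectors have weights; `sp_wt` : they span.
-/

set_option autoImplicit false
set_option linter.unusedSectionVars false

namespace Cfsg.Agent.R2.H27.F4Th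

open Matrix Cfsg.Agent.H943.SL2Rel Cfsg.Agent.H943.SL2Mod Cfsg.Agent.H943.RepAdd Cfsg.Agent.R2.H28.SL2
open Cfsg.Agent.R2.F4N (mem_Bf_pair)

universe u v w

theorem sum_count (s : Multiset ℕ) {q : ℕ} (h : ∀ b ∈ s, b < q) (f : ℕ → ℕ) :
    (s.map f).sum = ∑ b ∈ Finset.range q, s.count b * f b := by
  rw [Finset.sum_multiset_map_count, Finset.sum_subset (s₂ := Finset.range q)]
  · exact Finset.sum_congr rfl fun b _ => by rw [smul_eq_mul]
  · intro b hb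
    exact Finset.mem_range.2 (h b (Multiset.mem_toFinset.1 hb))
  · intro b _ hb
    rw [Multiset.mem_toFinset, ← Multiset.count_eq_zero] at hb
    rw [hb, zero_smul]

theorem zpow_inj {k : Type u} [Field k] {α : k} {N : ℕ} (hα : IsPrimitiveRoot α N) (hα0 : α ≠ 0) {x y : ℤ}
    (h : α ^ x = α ^ y) (h1 : x - y < N) (h2 : y - x < N) : x = y := by
  have h3 : α ^ (x - y) = 1 := by
    rw [zpow_sub₀ hα0, h, div_self (zpow_ne_zero _ hα0)]
  have h4 := (hα.zpow_eq_one_iff_dvd _).1 h3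
  have h5 := Int.eq_zero_of_abs_lt_dvd h4 (by rw [abs_lt]; constructor <;> omega)
  omega

section lab

variable {k : Type u} [Field k] [DecidableEq k] (p : ℕ) [Fact p.Prime] [CharP k p]

theorem wt_single {x : k} (hx : x ≠ 0) (r : ℕ) {n s : ℕ} (hs : s ≤ n) :
    x ^ (s * p ^ r) * x⁻¹ ^ (n * p ^ r - s * p ^ r) = (x ^ p ^ r) ^ (2 * (s : ℤ) - n) := by
  rw [← R2.F4L.pow_wt (pow_ne_zero _ hx) hs, ← Nat.sub_mul, mul_comm s, mul_comm (n - s), pow_mul, pow_mul, inv_pow]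

theorem wt_pair {x : k} (hx : x ≠ 0) (r r' : ℕ) {n s n' s' : ℕ} (hs : s ≤ n) (hs' : s' ≤ n') :
    x ^ (s * p ^ r + s' * p ^ r') * x⁻¹ ^ (n * p ^ r + n' * p ^ r' - (s * p ^ r + s' * p ^ r')) =
      (x ^ p ^ r) ^ (2 * (s : ℤ) - n) * (x ^ p ^ r') ^ (2 * (s' : ℤ) - n') := by
  rw [← wt_single p hx r hs, ← wt_single p hx r' hs']
  have h1 : s * p ^ r ≤ n * p ^ r := Nat.mul_le_mul_right _ hs
  have h2 : s' * p ^ r' ≤ n' * p ^ r' := Nat.mul_le_mul_right _ hs'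
  have h3 : n * p ^ r + n' * p ^ r' - (s * p ^ r + s' * p ^ r') = (n * p ^ r - s * p ^ r) + (n' * p ^ r' - s' * p ^ r') := by
    omega
  rw [h3, pow_add, pow_add]
  ring

end lab

variable {k : Type u} [Field k] [DecidableEq k] {K : Type w} [Field K] [Fintype K] [DecidableEq K] (ι : K →+* k)
variable (p : ℕ) [Fact p.Prime] [CharP k p] [CharP K p] {a : ℕ}

theorem frob_wrap (hK : Fintype.card K = p ^ a) (lam : Kˣ) {r : ℕ} (hr : r < a) :
    (ι lam) ^ p ^ ((r + 1) % a) = ((ι lam) ^ p ^ r) ^ p := by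
  rw [← pow_mul, ← pow_succ]
  rcases lt_or_ge (r + 1) a with h | h
  · rw [Nat.mod_eq_of_lt h]
  · obtain rfl : a = r + 1 := by omega
    rw [Nat.mod_self, pow_zero, pow_one, ← hK, ← map_pow, FiniteField.pow_card]

variable {ι p} {lam : Kˣ} {r : ℕ} (hprim : IsPrimitiveRoot ((ι lam) ^ p ^ r) (Fintype.card K - 1))

theorem lam_ne : ι lam ≠ 0 := (map_ne_zero ι).2 lam.ne_zero

include hprim

theorem mf_single_le {n : ℕ} (hn : n < p) (hN : 2 * n < Fintype.card K - 1) (w : ℤ) :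
    mf (n * p ^ r) (ι lam) (((ι lam) ^ p ^ r) ^ w) ≤ 1 := by
  unfold mf
  rw [Finset.card_le_one]
  intro m hm m' hm'
  rw [Finset.mem_filter] at hm hm'
  obtain ⟨s, hs, rfl⟩ := (mem_Bf_single p hn r).1 hm.1
  obtain ⟨s', hs', rfl⟩ := (mem_Bf_single p hn r).1 hm'.1
  have h1 := hm.2.trans hm'.2.symm
  rw [wt_single p lam_ne r hs, wt_single p lam_ne r hs'] at h1
  have h2 := zpow_inj hprim (pow_ne_zero _ lam_ne) h1 (by omega) (by omega)
  have h3 : s = s' := by omega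
  rw [h3]

theorem mf_single_zero {n : ℕ} (hn : n < p) {w : ℤ} (hw : ∀ s : ℕ, s ≤ n → 2 * (s : ℤ) - n ≠ w)
    (h1 : w + n < (Fintype.card K - 1 : ℕ)) (h2 : n - w < (Fintype.card K - 1 : ℕ)) :
    mf (n * p ^ r) (ι lam) (((ι lam) ^ p ^ r) ^ w) = 0 := by
  unfold mf
  rw [Finset.card_eq_zero, Finset.filter_eq_empty_iff]
  intro m hm h
  obtain ⟨s, hs, rfl⟩ := (mem_Bf_single p hn r).1 hm
  rw [wt_single p lam_ne r hs] at h
  exact hw s hs (zpow_inj hprim (pow_ne_zero _ lam_ne) h (by omega) (by omega))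

omit hprim in
theorem mf_single_ne {n : ℕ} (hn : n < p) {ν : k} (h : mf (n * p ^ r) (ι lam) ν ≠ 0) :
    ∃ s : ℕ, s ≤ n ∧ ((ι lam) ^ p ^ r) ^ (2 * (s : ℤ) - n) = ν := by
  unfold mf at h
  obtain ⟨m, hm⟩ := Finset.card_ne_zero.1 h
  rw [Finset.mem_filter] at hm
  obtain ⟨s, hs, rfl⟩ := (mem_Bf_single p hn r).1 hm.1
  exact ⟨s, hs, by rw [← wt_single p lam_ne r hs, hm.2]⟩

omit hprim in
theorem mf_pair_ne (hK : Fintype.card K = p ^ a) (hp7 : p = 7) (ha : 2 ≤ a) (hr : r < a) {ν : k}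
    (h : mf (p ^ r + p ^ ((r + 1) % a)) (ι lam) ν ≠ 0) :
    ∃ w : ℤ, (w = -8 ∨ w = -6 ∨ w = 6 ∨ w = 8) ∧ ((ι lam) ^ p ^ r) ^ w = ν := by
  have hs := succ_mod_ne (a := a) (i := r) (by omega) hr
  have e1 : p ^ r + p ^ ((r + 1) % a) = 1 * p ^ r + 1 * p ^ ((r + 1) % a) := by rw [one_mul, one_mul]
  rw [e1] at h
  unfold mf at h
  obtain ⟨m, hm⟩ := Finset.card_ne_zero.1 h
  rw [Finset.mem_filter] at hm
  obtain ⟨s, hs1, s', hs1', rfl⟩ := mem_Bf_pair p (by omega) (by omega) hs hm.1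
  have hα0 : (ι lam) ^ p ^ r ≠ 0 := pow_ne_zero _ lam_ne
  have h1 := hm.2
  rw [wt_pair p lam_ne r _ hs1 hs1', frob_wrap ι p hK lam hr, ← zpow_natCast _ p, ← _root_.zpow_mul,
    ← zpow_add₀ hα0] at h1
  refine ⟨_, ?_, h1⟩
  rw [hp7]
  push_cast
  omega

theorem mf_pair_le (hK : Fintype.card K = p ^ a) (hp7 : p = 7) (ha : 2 ≤ a) (hr : r < a) (w : ℤ) :
    mf (p ^ r + p ^ ((r + 1) % a)) (ι lam) (((ι lam) ^ p ^ r) ^ w) ≤ 1 := by
  have hN : 48 ≤ Fintype.card K - 1 := by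
    rw [hK, hp7]
    have : 7 ^ 2 ≤ 7 ^ a := Nat.pow_le_pow_right (by norm_num) ha
    omega
  have hs := succ_mod_ne (a := a) (i := r) (by omega) hr
  have e1 : p ^ r + p ^ ((r + 1) % a) = 1 * p ^ r + 1 * p ^ ((r + 1) % a) := by rw [one_mul, one_mul]
  rw [e1]
  unfold mf
  rw [Finset.card_le_one]
  intro m hm m' hm'
  rw [Finset.mem_filter] at hm hm'
  obtain ⟨s, hs1, s', hs1', rfl⟩ := mem_Bf_pair p (by omega) (by omega) hs hm.1
  obtain ⟨t, ht1, t', ht1', rfl⟩ := mem_Bf_pair p (by omega) (by omega) hs hm'.1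
  have h1 := hm.2.trans hm'.2.symm
  have hα0 : (ι lam) ^ p ^ r ≠ 0 := pow_ne_zero _ lam_ne
  rw [wt_pair p lam_ne r _ hs1 hs1', wt_pair p lam_ne r _ ht1 ht1', frob_wrap ι p hK lam hr, ← zpow_natCast _ p,
    ← _root_.zpow_mul, ← _root_.zpow_mul, ← zpow_add₀ hα0, ← zpow_add₀ hα0] at h1
  have h2 := zpow_inj hprim hα0 h1 (by rw [hp7]; push_cast; omega) (by rw [hp7]; push_cast; omega)
  rw [hp7] at h2
  push_cast at h2
  have h3 : s = t := by omega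
  have h4 : s' = t' := by omega
  rw [h3, h4]

section eig

variable [IsAlgClosed k] {M : Type v} [AddCommGroup M] [Module k M] [FiniteDimensional k M]
  {σ : Representation k (SpecialLinearGroup (Fin 2) K) M}

/-- the eigenspaces from the composition factors -/
theorem finrank_eig_cf (hK : Fintype.card K = p ^ a) (w : ℤ) :
    Module.finrank k (eig σ (Cfsg.Agent.H943.SL2Rel.h lam) (((ι lam) ^ p ^ r) ^ w)) =
      ((cf (Sy.{u, v, w} ι p) σ).map fun c => mf c (ι lam) (((ι lam) ^ p ^ r) ^ w)).sum := by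
  have hN1 : (ι lam) ^ (Fintype.card K - 1) = 1 := by
    rw [← map_pow, FiniteField.pow_card_sub_one_eq_one _ lam.ne_zero, map_one]
  have hν : ((((ι lam) ^ p ^ r) ^ w) ^ (Fintype.card K - 1) : k) = 1 := by
    rw [← zpow_natCast, ← _root_.zpow_mul, mul_comm, _root_.zpow_mul, zpow_natCast, hprim.pow_eq_one, _root_.one_zpow]
  rw [sum_count _ (cf_lt ι p hK σ)]
  exact (isMult_cf ι p hK σ).eigen _ (ι lam) (Fintype.card K - 1) (Cfsg.Agent.H179.SLC.isSS_h ι lam) hN1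
    (by rw [cast_Q p]; exact neg_ne_zero.2 one_ne_zero) _ hν

/-- eigenvectors have weights -/
theorem exists_mf (hK : Fintype.card K = p ^ a) {x : M} (hx : x ≠ 0) {w : ℤ}
    (h : σ (Cfsg.Agent.H943.SL2Rel.h lam) x = (((ι lam) ^ p ^ r) ^ w) • x) :
    ∃ c ∈ cf (Sy.{u, v, w} ι p) σ, mf c (ι lam) (((ι lam) ^ p ^ r) ^ w) ≠ 0 := by
  by_contra hcon
  push Not at hcon
  have h1 := finrank_eig_cf (σ := σ) hprim hK w
  have h2 : ((cf (Sy.{u, v, w} ι p) σ).map fun c => mf c (ι lam) (((ι lam) ^ p ^ r) ^ w)).sum = 0 := by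
    rw [Multiset.sum_eq_zero_iff]
    intro n hn
    obtain ⟨c, hc, rfl⟩ := Multiset.mem_map.1 hn
    exact hcon c hc
  rw [h2] at h1
  have h3 := Submodule.finrank_eq_zero.1 h1
  have h4 : x ∈ eig σ (Cfsg.Agent.H943.SL2Rel.h lam) (((ι lam) ^ p ^ r) ^ w) := (mem_eig σ).2 h
  rw [h3, Submodule.mem_bot] at h4
  exact hx h4

/-- one-dimensional eigenspaces -/
theorem eig_one (hK : Fintype.card K = p ^ a) {w : ℤ}
    (h1 : ((cf (Sy.{u, v, w} ι p) σ).map fun c => mf c (ι lam) (((ι lam) ^ p ^ r) ^ w)).sum ≤ 1) {x y : M} (hx : x ≠ 0)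
    (hxe : σ (Cfsg.Agent.H943.SL2Rel.h lam) x = (((ι lam) ^ p ^ r) ^ w) • x)
    (hye : σ (Cfsg.Agent.H943.SL2Rel.h lam) y = (((ι lam) ^ p ^ r) ^ w) • y) : ∃ c : k, y = c • x := by
  rw [← finrank_eig_cf hprim hK w] at h1
  have h4 : x ∈ eig σ (Cfsg.Agent.H943.SL2Rel.h lam) (((ι lam) ^ p ^ r) ^ w) := (mem_eig σ).2 hxe
  have h5 : y ∈ eig σ (Cfsg.Agent.H943.SL2Rel.h lam) (((ι lam) ^ p ^ r) ^ w) := (mem_eig σ).2 hye
  have h6 := finrank_le_one_iff.1 h1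
  obtain ⟨v, hv⟩ := h6
  obtain ⟨c, hc⟩ := hv ⟨x, h4⟩
  obtain ⟨d, hd⟩ := hv ⟨y, h5⟩
  have hc' : c • (v : M) = x := congrArg Subtype.val hc
  have hd' : d • (v : M) = y := congrArg Subtype.val hd
  have hc0 : c ≠ 0 := by
    rintro rfl
    rw [zero_smul] at hc'
    exact hx hc'.symm
  exact ⟨d * c⁻¹, by rw [← hd', ← hc', smul_smul, mul_assoc, inv_mul_cancel₀ hc0, mul_one]⟩

/-- the weight vectors span -/
theorem sp_wt (S : ℤ → Prop) (hS : ∀ j : ℕ, ∀ x : M, x ≠ 0 →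
    σ (Cfsg.Agent.H943.SL2Rel.h lam) x = (((ι lam) ^ p ^ r) ^ (j : ℤ)) • x → ∃ w, S w ∧
      ((ι lam) ^ p ^ r) ^ (j : ℤ) = ((ι lam) ^ p ^ r) ^ w) (x : M) :
    x ∈ Submodule.span k {v : M | ∃ w, S w ∧ σ (Cfsg.Agent.H943.SL2Rel.h lam) v = ((ι lam) ^ p ^ r) ^ w • v} := by
  have hg : σ (Cfsg.Agent.H943.SL2Rel.h lam) ^ (Fintype.card K - 1) = 1 := by
    have hg1 : lam ^ (Fintype.card K - 1) = 1 := Units.ext (by
      rw [Units.val_pow_eq_pow_val, FiniteField.pow_card_sub_one_eq_one _ lam.ne_zero, Units.val_one])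
    rw [← map_pow, ← Cfsg.Agent.H943.SL2Rel.h_pow, hg1, Cfsg.Agent.H943.SL2Rel.h_one, map_one]
  have h1 := span_eig (ρ := σ) hprim (by rw [cast_Q p]; exact neg_ne_zero.2 one_ne_zero) hg
  have h2 : x ∈ (⊤ : Submodule k M) := trivial
  rw [← h1] at h2
  refine Submodule.span_induction (p := fun x _ => x ∈ Submodule.span k
    {v : M | ∃ w, S w ∧ σ (Cfsg.Agent.H943.SL2Rel.h lam) v = ((ι lam) ^ p ^ r) ^ w • v}) ?_ ?_ ?_ ?_ h2
  · rintro v ⟨j, hj⟩
    by_cases hv : v = 0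
    · rw [hv]
      exact Submodule.zero_mem _
    · rw [← zpow_natCast] at hj
      obtain ⟨w, hw, e⟩ := hS j v hv hj
      rw [e] at hj
      exact Submodule.subset_span ⟨w, hw, hj⟩
  · exact Submodule.zero_mem _
  · intro x y _ _ hx hy
    exact Submodule.add_mem _ hx hy
  · intro c x _ hx
    exact Submodule.smul_mem _ _ hx

end eig

end Cfsg.Agent.R2.H27.F4Th
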