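import Cfsg.Agent.R2.H27.F4Th.Nn
import Cfsg.Agent.R2.H27.F4Th.Wt
import Cfsg.Agent.R2.H27.F4Th.Exc

/-!
# S5931, theta types (helper27)

`no_thetaB`, `no_thetaF` : the types `[b], [4], [8]` (`p ≥ 11`) and `[b] ⊥ T(8)` (`p = 7`), `b = [1,1,2]` or `[1,5]`.
-/

set_option autoImplicit false
set_option linter.unusedSectionVars false

namespace Cfsg.Agent.R2.H27.F4Th

open Cfsg Cfsg.Lie Module Matrix
open Cfsg.Agent.ChevalleyStructure.E6Min.Basic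
open Cfsg.Agent.H952.F4 (sh cr tf tr1 u0 hF4)
open Cfsg.Agent.H952.F4.Jord
open Cfsg.Agent.H952.F4.FixV (W0 mem_W0 finrank_W0)
open Cfsg.Agent.H943.SL2Rel (u h w)
open Cfsg.Agent.R2.H28.SL2 Cfsg.Agent.H943.RepAdd Cfsg.Agent.H943.SL2Mod
open Cfsg.Agent.R2.F4M
open Cfsg.Agent.R2.F4N (ir_map)
open Cfsg.Agent.R2.F4T (SD Nd Iso)
open Cfsg.Agent.R2.F4L (emW Act Cx TS act_Rk ts4_u3)
open Cfsg.Agent.R2.H1.F4
open Cfsg.Agent.R2.SL2 (typ tyl)

universe u v w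

variable {F : Type u} [Field F] [Fintype F] {K : Type v} [Field K] [Fintype K] [DecidableEq K] {p a b : ℕ}
variable {H : Subgroup ↥(chevF4.group F)} {φ : ProjectiveSpecialLinearGroup (Fin 2) K →* ↥(chevF4.group F)}
variable {k : Type u} [Field k] [DecidableEq k] {f : F →+* k} {ι : K →+* k} [Fact p.Prime] [CharP k p] [CharP K p]

section str

variable {r : ℕ} {aa : ℕ → I27 → k}

theorem aa_wt (hx : TS ι p (Rk f φ) 4 r aa) (lam : Kˣ) (s : ℕ) (hs : s ≤ 4) :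
    Wg (Rk f φ) (h lam) ((ι lam) ^ p ^ r) (2 * (s : ℤ) - 4) (aa s) := hx.h' hs lam

theorem wt_st {lam : Kˣ} {α : k} (hα : α ≠ 0) {x y : I27 → k} {w₁ w₂ : ℤ} (h1 : Wg (Rk f φ) (h lam) α w₁ x)
    (h2 : Wg (Rk f φ) (h lam) α w₂ y) : Wg (Rk f φ) (h lam) α (w₁ + w₂) (st x y) := by
  unfold Wg at h1 h2 ⊢
  rw [act_st act_Rk, h1, h2, st_smul_left, st_smul_right, smul_smul, zpow_add₀ hα]

/-- `a₃ * a₄ ≠ 0` -/
theorem st34_ne (hx : TS ι p (Rk f φ) 4 r aa) (h8 : st (aa 4) (aa 4) ≠ 0) : st (aa 3) (aa 4) ≠ 0 := by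
  intro h0
  apply h8
  have h1 := act_st act_Rk (u (1 : K)) (aa 3) (aa 4) (ρ := Rk f φ)
  rw [h0, map_zero, ts4_u3 hx, hx.u_top, st_add_left, h0, zero_add, map_one, one_pow, one_smul] at h1
  exact h1.symm

end str

variable [IsAlgClosed k]

/-- the string of length five -/
theorem exists_aa (hc : Cfg p a b H φ) (C : Cx ι p a (Rk f φ)) (hQ : 11 ≤ Fintype.card K) {r : ℕ} (hr : r < a)
    (hcount : (cf (Sy.{u, u, v} ι p) (R0 f φ)).count (4 * p ^ r) ≤ 3) (hsoc : InSoc ι p (R0 f φ) (4 * p ^ r)) :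
    ∃ aa : ℕ → I27 → k, TS ι p (Rk f φ) 4 r aa ∧ sh (aa 4) ≠ 0 := by
  by_contra hcon
  push Not at hcon
  exact R2.F4L.no4 hc C hQ hr hcon hcount hsoc

/-- the weights -/
def Sw (w : ℤ) : Prop := w % 2 = 0 ∧ -8 ≤ w ∧ w ≤ 8

/-- the low vector of `X` -/
theorem exists_xl (hK : Fintype.card K = p ^ a) (hp7 : 7 ≤ p) (ha : 2 ≤ a) {r : ℕ} (hr : r < a) {X : Submodule k ↥(W0 k)}
    {hX : ∀ g, ∀ x ∈ X, R0 f φ g x ∈ X}
    (hV : IsV (V := ↥X) ι p (subRep (R0 f φ) X hX) (5 * p ^ r + p ^ ((r + 1) % a))) (lam : Kˣ) :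
    ∃ xl ∈ X.map (W0 k).subtype, xl ≠ 0 ∧ Wg (Rk f φ) (h lam) ((ι lam) ^ p ^ r) (-(5 + p)) xl := by
  have hs := succ_mod_ne (a := a) (i := r) (by omega) hr
  rw [← one_mul (p ^ ((r + 1) % a))] at hV
  obtain ⟨v, hv⟩ := hV.basP ι p hK (by omega) (by omega) hs hr (Nat.mod_lt _ (by omega))
  refine ⟨((v 0 0 : X) : ↥(W0 k)), ⟨(v 0 0 : X), (v 0 0).2, rfl⟩, ?_, ?_⟩
  · intro h0
    have h1 : v 0 0 = 0 := Subtype.ext (Subtype.ext h0)
    exact hv.li.ne_zero (⟨0, 0⟩ : Fin (5 + 1) × Fin (1 + 1)) h1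
  · have h1 := hv.h 0 (by norm_num) 0 (by norm_num) lam
    have h2 := congrArg (fun x : X => ((x : ↥(W0 k)) : I27 → k)) h1
    have hα0 : (ι lam) ^ p ^ r ≠ 0 := pow_ne_zero _ lam_ne
    have h3 : (ι lam ^ p ^ r) ^ 0 * (ι lam ^ p ^ r)⁻¹ ^ (5 - 0) *
        ((ι lam ^ p ^ ((r + 1) % a)) ^ 0 * (ι lam ^ p ^ ((r + 1) % a))⁻¹ ^ (1 - 0)) =
        ((ι lam) ^ p ^ r) ^ (-(5 + (p : ℤ))) := by
      rw [frob_wrap ι p hK lam hr, pow_zero, pow_zero, one_mul, one_mul, Nat.sub_zero, Nat.sub_zero, pow_one, _root_.zpow_neg,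
        zpow_add₀ hα0, mul_inv, inv_pow, zpow_natCast]
      norm_cast
    rw [h3] at h2
    exact h2

theorem mk_sit (hc : Cfg p a b H φ) (hp7 : 7 ≤ p) (ha : 2 ≤ a) {r : ℕ} (hr : r < a) {X : Submodule k ↥(W0 k)}
    {hX : ∀ g, ∀ x ∈ X, R0 f φ g x ∈ X} {c : ℕ} (hcc : c = 5 * p ^ r + p ^ ((r + 1) % a)) (ht : Ty p c)
    (hV : IsV (V := ↥X) ι p (subRep (R0 f φ) X hX) c) {aa : ℕ → I27 → k}
    (hx : TS ι p (Rk f φ) 4 r aa) (hx0 : aa ≠ 0) {lam : Kˣ}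
    (hprim : IsPrimitiveRoot ((ι lam) ^ p ^ r) (Fintype.card K - 1))
    (hS : ∀ (h3 : (3 : k) ≠ 0) (j : ℕ), ∀ x : ↥(orth (tf0 k) X), x ≠ 0 →
      subRep (R0 f φ) (orth (tf0 k) X) ((sd_R0 h3).orth_inv hX) (h lam) x = (((ι lam) ^ p ^ r) ^ (j : ℤ)) • x →
        ∃ w, Sw w ∧ ((ι lam) ^ p ^ r) ^ (j : ℤ) = ((ι lam) ^ p ^ r) ^ w) :
    ∃ xl, Sit (Rk f φ) (h lam) ((ι lam) ^ p ^ r) (Fintype.card K - 1) (5 + p) Sw (X.map (W0 k).subtype)
      ((orth (tf0 k) X).map (W0 k).subtype) xl aa := by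
  subst hcc
  have h3 : (3 : k) ≠ 0 := R2.F4L.three_ne p (by omega)
  have S := sd_R0 (f := f) (φ := φ) h3
  obtain ⟨xl, m1, m2, m3⟩ := exists_xl hc.cardK hp7 ha hr hV lam
  have hb : 4 * p ^ r ≤ Fintype.card K - 1 := by
    have := single_lt p (n := 4) (by omega) hr
    rw [hc.cardK]
    omega
  obtain ⟨hA, -⟩ := hx.isV (by omega) hb hx0
  obtain ⟨x', hx', e'⟩ := (emW (f := f) (φ := φ)).lift act_Rk (by omega) (by norm_num) hb hx
  have hx'0 : x' ≠ 0 := by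
    rintro rfl
    apply hx0
    funext s
    exact (e' s).symm
  obtain ⟨hA', hV4⟩ := hx'.isV (by omega) hb hx'0
  refine ⟨xl, ⟨act_Rk, R2.F4L.two_ne p (by omega), h3, hprim, pow_ne_zero _ lam_ne, ?_, ?_, ?_, ?_, ?_, ?_, ?_, ?_, ?_, m1, m2, m3,
    hA, hx.zero, ?_, aa_wt hx lam, ?_, fun w hw => hw.2⟩⟩
  · rw [hc.cardK]
    have h4 : 7 ^ 2 ≤ p ^ a := le_trans (Nat.pow_le_pow_right (by norm_num) ha) (Nat.pow_le_pow_left hp7 a)
    omega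
  · rintro _ ⟨x, hx, rfl⟩
    exact (mem_W0 _).1 x.2
  · rintro _ ⟨x, hx, rfl⟩
    exact (mem_W0 _).1 x.2
  · rintro _ ⟨x, hx, rfl⟩ _ ⟨y, hy, rfl⟩
    exact hy x hx
  · intro v hv hvo
    have h5 : (⟨v, (mem_W0 v).2 hv⟩ : ↥(W0 k)) ∈ orth (tf0 k) (orth (tf0 k) X) := by
      intro y hy
      have h6 := hvo y ⟨y, hy, rfl⟩
      rw [tf0_apply, tf_comm]
      exact h6
    rw [S.orth_orth] at h5
    exact ⟨_, h5, rfl⟩
  · intro v hv hvo
    refine ⟨⟨v, (mem_W0 v).2 hv⟩, fun x hx => ?_, rfl⟩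
    have h6 := hvo x ⟨x, hx, rfl⟩
    rw [tf0_apply, tf_comm]
    exact h6
  · rintro g _ ⟨x, hx, rfl⟩
    exact ⟨R0 f φ g x, hX g x hx, rfl⟩
  · rintro g _ ⟨x, hx, rfl⟩
    exact ⟨R0 f φ g x, S.orth_inv hX g x hx, rfl⟩
  · exact (ir_map ι p hV).ir
  · intro s
    refine ⟨x' s, fun z hz => ?_, e' s⟩
    exact R2.F4L.orth_ne S.dul (fun h => not_ty_single (n := 4) (i := r) (by omega) (h ▸ ht)) hV hV4 z hz (x' s)
      (Submodule.subset_span ⟨s, rfl⟩)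
  · rintro _ ⟨y, hy, rfl⟩
    have h5 := sp_wt (M := ↥(orth (tf0 k) X)) hprim (σ := subRep (R0 f φ) (orth (tf0 k) X) (S.orth_inv hX)) Sw (hS h3) ⟨y, hy⟩
    have h6 := Submodule.mem_map_of_mem (f := (W0 k).subtype.comp (orth (tf0 k) X).subtype) h5
    rw [Submodule.map_span] at h6
    refine Submodule.span_mono ?_ h6
    rintro _ ⟨v, ⟨w, hw, hv⟩, rfl⟩
    exact ⟨⟨v, v.2, rfl⟩, w, hw, congrArg (fun x : ↥(orth (tf0 k) X) => ((x : ↥(W0 k)) : I27 → k)) hv⟩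

/-- one-dimensional weight spaces of `Y` -/
theorem one_wt (hK : Fintype.card K = p ^ a) {r : ℕ} {Y : Submodule k ↥(W0 k)} (hY : ∀ g, ∀ x ∈ Y, R0 f φ g x ∈ Y) {lam : Kˣ}
    (hprim : IsPrimitiveRoot ((ι lam) ^ p ^ r) (Fintype.card K - 1)) {w : ℤ}
    (hsum : ((cf (Sy.{u, u, v} ι p) (V := ↥Y) (subRep (R0 f φ) Y hY)).map
      fun c => mf c (ι lam) (((ι lam) ^ p ^ r) ^ w)).sum ≤ 1) {x : I27 → k} (hx : x ∈ Y.map (W0 k).subtype) (hx0 : x ≠ 0)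
    (hw : Wg (Rk f φ) (h lam) ((ι lam) ^ p ^ r) w x) :
    ∀ y ∈ Y.map (W0 k).subtype, Wg (Rk f φ) (h lam) ((ι lam) ^ p ^ r) w y → ∃ c : k, y = c • x := by
  obtain ⟨x, hxY, rfl⟩ := hx
  rintro _ ⟨y, hyY, rfl⟩ hwy
  have e1 : (⟨x, hxY⟩ : Y) ≠ 0 := by
    intro h0
    apply hx0
    have h1 : x = 0 := congrArg Subtype.val h0
    rw [h1]
    rfl
  have e2 : subRep (R0 f φ) Y hY (h lam) (⟨x, hxY⟩ : Y) = (((ι lam) ^ p ^ r) ^ w) • (⟨x, hxY⟩ : Y) :=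
    Subtype.ext (Subtype.ext hw)
  have e3 : subRep (R0 f φ) Y hY (h lam) (⟨y, hyY⟩ : Y) = (((ι lam) ^ p ^ r) ^ w) • (⟨y, hyY⟩ : Y) :=
    Subtype.ext (Subtype.ext hwy)
  obtain ⟨c, hcc⟩ := eig_one (M := ↥Y) (σ := subRep (R0 f φ) Y hY) hprim hK hsum e1 e2 e3
  exact ⟨c, congrArg (fun x : Y => ((x : ↥(W0 k)) : I27 → k)) hcc⟩

/-- the string, with its products -/
theorem sh_ne {aa : ℕ → I27 → k} {lam : Kˣ} {N : ℕ} {S : ℤ → Prop} {w0 : ℤ} {X Y : Submodule k (I27 → k)}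
    {xl : I27 → k} {α : k} (T : Sit (Rk f φ) (h lam) α N w0 S X Y xl aa) (h4 : sh (aa 4) ≠ 0) : st (aa 4) (aa 4) ≠ 0 :=
  fun h0 => h4 (sh_of_sq T.two T.three (T.trY _ (T.aY 4)) h0)

theorem exc11 (hc : Cfg p a b H φ) (C : Cx ι p a (Rk f φ)) (hp : p = 11) (ha : 2 ≤ a) {r : ℕ} (hr : r < a)
    {X : Submodule k ↥(W0 k)} {hX : ∀ g, ∀ x ∈ X, R0 f φ g x ∈ X} {c : ℕ} (hcc : c = 5 * p ^ r + p ^ ((r + 1) % a))
    (ht : Ty p c) (hV : IsV (V := ↥X) ι p (subRep (R0 f φ) X hX) c)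
    (hcfY : ∀ h3 : (3 : k) ≠ 0, cf (Sy.{u, u, v} ι p) (V := ↥(orth (tf0 k) X)) (subRep (R0 f φ) (orth (tf0 k) X)
      ((sd_R0 h3).orth_inv hX)) = {4 * p ^ r, 8 * p ^ r})
    (hcount : (cf (Sy.{u, u, v} ι p) (R0 f φ)).count (4 * p ^ r) ≤ 3) (hsoc : InSoc ι p (R0 f φ) (4 * p ^ r)) :
    ∀ x ∈ orth (tf0 k) X, ∀ y ∈ orth (tf0 k) X, ∀ z ∈ X, tf (st (x : I27 → k) y) z = 0 := by
  have h3 : (3 : k) ≠ 0 := R2.F4L.three_ne p (by omega)
  have hQ : 121 ≤ Fintype.card K := by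
    rw [hc.cardK, hp]
    exact le_trans (by norm_num) (Nat.pow_le_pow_right (show 0 < 11 by norm_num) ha)
  obtain ⟨aa, hx, h4⟩ := exists_aa hc C (by omega) hr hcount hsoc
  have hx0 : aa ≠ 0 := by
    rintro rfl
    exact h4 R2.F4L.sh_zero
  obtain ⟨lam, hprim⟩ := R2.F4L.exists_prim ι r p
  obtain ⟨xl, T⟩ := mk_sit hc (by omega) ha hr hcc ht hV hx hx0 hprim (fun h3 j x hx hj => by
    obtain ⟨d, hd, hm⟩ := exists_mf (M := ↥(orth (tf0 k) X)) (σ := subRep (R0 f φ) (orth (tf0 k) X)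
      ((sd_R0 h3).orth_inv hX)) hprim hc.cardK hx hj
    rw [hcfY h3, Multiset.insert_eq_cons, Multiset.mem_cons, Multiset.mem_singleton] at hd
    rcases hd with rfl | rfl
    · obtain ⟨s, hs, e⟩ := mf_single_ne (by omega) hm
      exact ⟨_, ⟨by push_cast; omega, by push_cast; omega, by push_cast; omega⟩, e.symm⟩
    · obtain ⟨s, hs, e⟩ := mf_single_ne (by omega) hm
      exact ⟨_, ⟨by push_cast; omega, by push_cast; omega, by push_cast; omega⟩, e.symm⟩)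
  have T' : Sit (Rk f φ) (h lam) ((ι lam) ^ p ^ r) (Fintype.card K - 1) 16 Sw (X.map (W0 k).subtype)
      ((orth (tf0 k) X).map (W0 k).subtype) xl aa := by
    have e : (5 + (p : ℤ)) = 16 := by rw [hp]; norm_num
    rw [e] at T
    exact T
  have w4 : Wg (Rk f φ) (h lam) ((ι lam) ^ p ^ r) 4 (aa 4) := by
    have := T.wa 4 le_rfl
    norm_num at this
    exact this
  have w8 : Wg (Rk f φ) (h lam) ((ι lam) ^ p ^ r) 8 (st (aa 4) (aa 4)) := wt_st T.ne w4 w4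
  have h1 := T'.core11 (one_wt hc.cardK _ hprim (by
    rw [hcfY h3, Multiset.insert_eq_cons, Multiset.map_cons, Multiset.map_singleton, Multiset.sum_cons,
      Multiset.sum_singleton, mf_single_zero hprim (by omega) (fun s hs => by omega) (by omega) (by omega), zero_add]
    exact mf_single_le hprim (by omega) (by omega) 8) (T'.AAY (by norm_num) (by norm_num) 4 4) (sh_ne T' h4) w8)
  intro x hx y hy z hz
  exact h1 z ⟨z, hz, rfl⟩ x ⟨x, hx, rfl⟩ y ⟨y, hy, rfl⟩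

theorem exc7 (hc : Cfg p a b H φ) (C : Cx ι p a (Rk f φ)) (hp : p = 7) (ha : 2 ≤ a) {r : ℕ} (hr : r < a)
    {X : Submodule k ↥(W0 k)} {hX : ∀ g, ∀ x ∈ X, R0 f φ g x ∈ X} {c : ℕ} (hcc : c = 5 * p ^ r + p ^ ((r + 1) % a))
    (ht : Ty p c) (hV : IsV (V := ↥X) ι p (subRep (R0 f φ) X hX) c)
    (hcfY : ∀ h3 : (3 : k) ≠ 0, cf (Sy.{u, u, v} ι p) (V := ↥(orth (tf0 k) X)) (subRep (R0 f φ) (orth (tf0 k) X)
      ((sd_R0 h3).orth_inv hX)) = {4 * p ^ r, 4 * p ^ r, p ^ r + p ^ ((r + 1) % a)})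
    (hcount : (cf (Sy.{u, u, v} ι p) (R0 f φ)).count (4 * p ^ r) ≤ 3) (hsoc : InSoc ι p (R0 f φ) (4 * p ^ r)) :
    ∀ x ∈ orth (tf0 k) X, ∀ y ∈ orth (tf0 k) X, ∀ z ∈ X, tf (st (x : I27 → k) y) z = 0 := by
  have h3 : (3 : k) ≠ 0 := R2.F4L.three_ne p (by omega)
  have hQ : 49 ≤ Fintype.card K := by
    rw [hc.cardK, hp]
    exact le_trans (by norm_num) (Nat.pow_le_pow_right (show 0 < 7 by norm_num) ha)
  obtain ⟨aa, hx, h4⟩ := exists_aa hc C (by omega) hr hcount hsoc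
  have hx0 : aa ≠ 0 := by
    rintro rfl
    exact h4 R2.F4L.sh_zero
  obtain ⟨lam, hprim⟩ := R2.F4L.exists_prim ι r p
  obtain ⟨xl, T⟩ := mk_sit hc (by omega) ha hr hcc ht hV hx hx0 hprim (fun h3 j x hx hj => by
    obtain ⟨d, hd, hm⟩ := exists_mf (M := ↥(orth (tf0 k) X)) (σ := subRep (R0 f φ) (orth (tf0 k) X)
      ((sd_R0 h3).orth_inv hX)) hprim hc.cardK hx hj
    rw [hcfY h3, Multiset.insert_eq_cons, Multiset.insert_eq_cons, Multiset.mem_cons, Multiset.mem_cons,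
      Multiset.mem_singleton] at hd
    rcases hd with rfl | rfl | rfl
    · obtain ⟨s, hs, e⟩ := mf_single_ne (by omega) hm
      exact ⟨_, ⟨by push_cast; omega, by push_cast; omega, by push_cast; omega⟩, e.symm⟩
    · obtain ⟨s, hs, e⟩ := mf_single_ne (by omega) hm
      exact ⟨_, ⟨by push_cast; omega, by push_cast; omega, by push_cast; omega⟩, e.symm⟩
    · obtain ⟨w, hw, e⟩ := mf_pair_ne hc.cardK hp ha hr hm
      exact ⟨w, ⟨by omega, by omega, by omega⟩, e.symm⟩)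
  have T' : Sit (Rk f φ) (h lam) ((ι lam) ^ p ^ r) (Fintype.card K - 1) 12 Sw (X.map (W0 k).subtype)
      ((orth (tf0 k) X).map (W0 k).subtype) xl aa := by
    have e : (5 + (p : ℤ)) = 12 := by rw [hp]; norm_num
    rw [e] at T
    exact T
  have w4 : Wg (Rk f φ) (h lam) ((ι lam) ^ p ^ r) 4 (aa 4) := by
    have := T.wa 4 le_rfl
    norm_num at this
    exact this
  have w3 : Wg (Rk f φ) (h lam) ((ι lam) ^ p ^ r) 2 (aa 3) := by
    have := T.wa 3 (by norm_num)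
    norm_num at this
    exact this
  have w8 : Wg (Rk f φ) (h lam) ((ι lam) ^ p ^ r) 8 (st (aa 4) (aa 4)) := wt_st T.ne w4 w4
  have w6 : Wg (Rk f φ) (h lam) ((ι lam) ^ p ^ r) 6 (st (aa 3) (aa 4)) := wt_st T.ne w3 w4
  have hsum : ∀ w : ℤ, (w = 6 ∨ w = 8) → ((cf (Sy.{u, u, v} ι p) (V := ↥(orth (tf0 k) X)) (subRep (R0 f φ)
      (orth (tf0 k) X) ((sd_R0 h3).orth_inv hX))).map fun c => mf c (ι lam) (((ι lam) ^ p ^ r) ^ w)).sum ≤ 1 := by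
    intro w hw
    have h5 : mf (4 * p ^ r) (ι lam) (((ι lam) ^ p ^ r) ^ w) = 0 :=
      mf_single_zero hprim (by omega) (fun s hs => by omega) (by omega) (by omega)
    rw [hcfY h3, Multiset.insert_eq_cons, Multiset.insert_eq_cons, Multiset.map_cons, Multiset.map_cons,
      Multiset.map_singleton, Multiset.sum_cons, Multiset.sum_cons, Multiset.sum_singleton, h5, zero_add, zero_add]
    exact mf_pair_le hprim hc.cardK hp ha hr w
  have h8 := sh_ne T' h4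
  have h1 := T'.core7 (one_wt hc.cardK _ hprim (hsum 8 (Or.inr rfl)) (T'.AAY (by norm_num) (by norm_num) 4 4) h8 w8)
    (fun w hw => hw.1) (one_wt hc.cardK _ hprim (hsum 6 (Or.inl rfl)) (T'.AAY (by norm_num) (by norm_num) 3 4)
      (st34_ne hx h8) w6)
  intro x hx y hy z hz
  exact h1 z ⟨z, hz, rfl⟩ x ⟨x, hx, rfl⟩ y ⟨y, hy, rfl⟩

omit [IsAlgClosed k] [CharP k p] [CharP K p] [DecidableEq k] [DecidableEq K] in
theorem two_le_of_ty {c : ℕ} (ht : Ty p c) (hc : c < p ^ a) : 2 ≤ a := by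
  by_contra h
  have h1 : a = 0 ∨ a = 1 := by omega
  rcases h1 with rfl | rfl
  · rw [pow_zero, Nat.lt_one_iff] at hc
    exact not_ty_zero (hc ▸ ht)
  · rw [pow_one] at hc
    have h2 := not_ty_single (p := p) (n := c) (i := 0) hc
    rw [pow_zero, mul_one] at h2
    exact h2 ht

/-- **the types `[b], [4], [8]`, `p ≥ 11`** -/
theorem no_thetaB (hc : Cfg p a b H φ) (C : Cx ι p a (Rk f φ)) (hp11 : 11 ≤ p) {r : ℕ} (hr : r < a) {c : ℕ}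
    (ht : tyl p c = [1, 1, 2] ∨ tyl p c = [1, 5])
    (hcf : cf (Sy.{u, u, v} ι p) (R0 f φ) = {c, 4 * p ^ r, 8 * p ^ r})
    (hnd : ∀ (X : Submodule k ↥(W0 k)) (hX : ∀ g, ∀ x ∈ X, R0 f φ g x ∈ X) (d : ℕ),
      IsV (V := ↥X) ι p (subRep (R0 f φ) X hX) d → Nd (tf0 k) X) : False := by
  have ht' : Ty p c := ht
  have h3 : (3 : k) ≠ 0 := R2.F4L.three_ne p (by omega)
  have S := sd_R0 (f := f) (φ := φ) h3
  have hsoc := S.all_soc (ι := ι) (p := p) hnd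
  have hcm : c ∈ cf (Sy.{u, u, v} ι p) (R0 f φ) := by
    rw [hcf, Multiset.insert_eq_cons]
    exact Multiset.mem_cons_self _ _
  have ha : 2 ≤ a := two_le_of_ty ht' (cf_lt ι p hc.cardK _ c hcm)
  obtain ⟨X, hX, hV⟩ := hsoc c hcm
  have hX0 := hnd X hX c hV
  have hcfY : cf (Sy.{u, u, v} ι p) (V := ↥(orth (tf0 k) X)) (subRep (R0 f φ) (orth (tf0 k) X)
      (S.orth_inv hX)) = {4 * p ^ r, 8 * p ^ r} := cf_orth ι p S hV hX0 hcf
  refine mainB hc hp11 hr ht' hcf hV hX0 ?_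
  by_cases hq : c ∈ cf (Sy.{u, u, v} ι p) (Sq (V := ↥(orth (tf0 k) X)) (subRep (R0 f φ) (orth (tf0 k) X) (S.orth_inv hX)))
  · obtain ⟨h11, hcc⟩ := sqY11 (X := ↥(orth (tf0 k) X)) ι p hc.cardK hp11 (by omega) hr hcfY hq ht'
    refine exc11 hc C h11 ha hr hcc ht' hV (fun _ => hcfY) ?_ (hsoc _ ?_)
    · refine le_trans (Multiset.count_le_card _ _) ?_
      rw [hcf]
      exact le_of_eq rfl
    · rw [hcf]
      simp
  · exact th_n h3 hV hX0 (S.orth_inv hX) hq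

/-- **the types `[b] ⊥ T(8)`, `p = 7`** -/
theorem no_thetaF (hc : Cfg p a b H φ) (C : Cx ι p a (Rk f φ)) (hp7 : p = 7) (ha : 2 ≤ a) {r : ℕ} (hr : r < a) {c : ℕ}
    (ht : tyl p c = [1, 1, 2] ∨ tyl p c = [1, 5]) {Y : Submodule k ↥(W0 k)} (hY : ∀ g, ∀ x ∈ Y, R0 f φ g x ∈ Y)
    (hYn : Nd (tf0 k) Y)
    (hcfY : cf (Sy.{u, u, v} ι p) (V := ↥Y) (subRep (R0 f φ) Y hY) = {4 * p ^ r, 4 * p ^ r, p ^ r + p ^ ((r + 1) % a)})
    {hYo : ∀ g, ∀ x ∈ orth (tf0 k) Y, R0 f φ g x ∈ orth (tf0 k) Y}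
    (hV : IsV (V := ↥(orth (tf0 k) Y)) ι p (subRep (R0 f φ) (orth (tf0 k) Y) hYo) c) : False := by
  have ht' : Ty p c := ht
  have h3 : (3 : k) ≠ 0 := R2.F4L.three_ne p (by omega)
  have S := sd_R0 (f := f) (φ := φ) h3
  have hX0 := S.nd_orth hYn
  have hs := succ_mod_ne (a := a) (i := r) (by omega) hr
  have hcf : cf (Sy.{u, u, v} ι p) (R0 f φ) = {c, 4 * p ^ r, 4 * p ^ r, p ^ r + p ^ ((r + 1) % a)} := by
    rw [cf_all ι p S hY hYn hV, hcfY]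
    rfl
  have hcfX : cf (Sy.{u, u, v} ι p) (V := ↥(orth (tf0 k) (orth (tf0 k) Y))) (subRep (R0 f φ) (orth (tf0 k) (orth (tf0 k) Y))
      (S.orth_inv hYo)) = {4 * p ^ r, 4 * p ^ r, p ^ r + p ^ ((r + 1) % a)} := cf_orth ι p S hV hX0 hcf
  refine mainF hc hp7 ha hr ht' hcf hV hX0 ?_
  by_cases hq : c ∈ cf (Sy.{u, u, v} ι p) (Sq (V := ↥(orth (tf0 k) (orth (tf0 k) Y)))
      (subRep (R0 f φ) (orth (tf0 k) (orth (tf0 k) Y)) (S.orth_inv hYo)))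
  · have hcc := sqY7 (X := ↥(orth (tf0 k) (orth (tf0 k) Y))) ι p hc.cardK hp7 (by omega) hr hcfX hq ht'
    have e4 : c ≠ 4 * p ^ r := fun h => not_ty_single (n := 4) (i := r) (by omega) (h ▸ ht')
    refine exc7 hc C hp7 ha hr hcc ht' hV (fun _ => hcfX) ?_ ?_
    · rw [hcf, Multiset.insert_eq_cons, Multiset.count_cons_of_ne e4.symm]
      refine le_trans (Multiset.count_le_card _ _) ?_
      exact le_of_eq rfl
    · have hY0 : Y ≠ ⊥ := by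
        rintro rfl
        have h4 : (cf (Sy.{u, u, v} ι p) (V := ↥(⊥ : Submodule k ↥(W0 k))) (subRep (R0 f φ) ⊥ hY)) = 0 :=
          cf_zero _ _
        rw [hcfY] at h4
        exact absurd h4 (Multiset.cons_ne_zero)
      obtain ⟨d, hd1, hd2⟩ := exists_inSoc_sub ι p hY hY0
      have hd3 := hd1.mem_cf
      rw [hcfY] at hd3
      simp only [Multiset.insert_eq_cons, Multiset.mem_cons, Multiset.mem_singleton] at hd3
      rcases hd3 with rfl | rfl | rfl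
      · exact hd2
      · exact hd2
      · exfalso
        have h4 := C.n11 (emW (f := f) (φ := φ)) hr (Nat.mod_lt _ (by omega)) hs hd2
        rw [hcf] at h4
        simp only [Multiset.insert_eq_cons, Multiset.mem_cons, Multiset.mem_singleton] at h4
        have t22 := tyl_pair (p := p) (n := 2) (m := 2) (by norm_num) (by omega) le_rfl (by omega) hs
        have t4 := tyl_single (p := p) (n := 4) (by norm_num) (by omega) r
        have t11 := tyl_pair (p := p) (n := 1) (m := 1) (by norm_num) (by omega) le_rfl (by omega) hs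
        rw [one_mul, one_mul] at t11
        rcases h4 with h4 | h4 | h4 | h4
        · exact not_ty_22 (by omega) hs (h4 ▸ ht')
        · rw [h4, t4] at t22
          simp at t22
        · rw [h4, t4] at t22
          simp at t22
        · rw [h4, t11] at t22
          simp at t22
  · exact th_n h3 hV hX0 (S.orth_inv hYo) hq

end Cfsg.Agent.R2.H27.F4Th
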