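import Cfsg.Agent.R2.H1.F4.Grade
import Cfsg.Agent.R2.F4N.Uqs
import Cfsg.Agent.R2.F4T.Sd

/-!
# S5931, theta types: the final reduction (helper27)

`th_fin` : an involution `-1` on `X`, `+1` on `X^⊥` gives a contradiction.
-/

set_option autoImplicit false
set_option linter.unusedSectionVars false

namespace Cfsg.Agent.R2.H27.F4Th

open Cfsg Cfsg.Lie Module Matrix
open Cfsg.Agent.ChevalleyStructure.E6Min.Basic
open Cfsg.Agent.H952.F4 (sh cr tf tr1 u0 hF4)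
open Cfsg.Agent.H952.F4.Jord
open Cfsg.Agent.H952.F4.FixV (W0 mem_W0 finrank_W0)
open Cfsg.Agent.R2.H28.SL2 Cfsg.Agent.H943.RepAdd Cfsg.Agent.H943.SL2Mod
open Cfsg.Agent.R2.F4M Cfsg.Agent.R2.F4N
open Cfsg.Agent.R2.F4T (SD Nd Iso)
open Cfsg.Agent.R2.H1.F4 (st Fr exists_fr sv sv_tf sv_tr no_grade)

universe u v w

variable {F : Type u} [Field F] [Fintype F] {K : Type v} [Field K] [Fintype K] [DecidableEq K] {p a b : ℕ}
variable {H : Subgroup ↥(chevF4.group F)} {φ : ProjectiveSpecialLinearGroup (Fin 2) K →* ↥(chevF4.group F)}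
variable {k : Type u} [Field k] [DecidableEq k] {f : F →+* k} {ι : K →+* k} [Fact p.Prime] [CharP k p] [CharP K p]

theorem sd_R0 (h3 : (3 : k) ≠ 0) : SD (R0 f φ) (tf0 k) :=
  ⟨R0_dul f φ h3, fun x y => by rw [tf0_apply, tf0_apply, tf_comm]⟩

theorem sur_of_pow [IsAlgClosed k] {s : k →+* k} (hs : ∀ c, s c = c ^ Fintype.card F) : Function.Surjective s := by
  intro c
  obtain ⟨r, hr⟩ := IsAlgClosed.exists_pow_nat_eq c (n := Fintype.card F) Fintype.card_pos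
  exact ⟨r, by rw [hs, hr]⟩

variable [IsAlgClosed k]

theorem th_fin (hc : Cfg p a b H φ) (h2 : (2 : k) ≠ 0) (h3 : (3 : k) ≠ 0) {X : Submodule k ↥(W0 k)}
    {hX : ∀ g, ∀ x ∈ X, R0 f φ g x ∈ X} {c : ℕ} (hV : IsV (V := ↥X) ι p (subRep (R0 f φ) X hX) c) (hnd : Nd (tf0 k) X)
    (hcount : (cf (Sy.{u, u, v} ι p) (R0 f φ)).count c = 1)
    (hd : ∀ c' ∈ cf (Sy.{u, u, v} ι p) (R0 f φ), (Bf k c').card = (Bf k c).card → c' = c)
    (n1 : ∀ x ∈ orth (tf0 k) X, ∀ y ∈ orth (tf0 k) X, ∀ z ∈ X, tf (st (x : I27 → k) y) z = 0)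
    (n2 : ∀ x ∈ X, ∀ y ∈ X, ∀ z ∈ X, tf (st (x : I27 → k) y) z = 0) : False := by
  have S := sd_R0 (f := f) (φ := φ) h3
  have U := uq_map ι p hV hcount hd
  obtain ⟨s, hfr, hs⟩ := exists_fr f
  have hsur := sur_of_pow hs
  have hcm := S.compl hX hnd
  have sQ : ∀ x ∈ X.map (W0 k).subtype, sv s x ∈ X.map (W0 k).subtype := fun x hx => U.sm_mem hfr.fix hsur hx
  have sQ' : ∀ x ∈ X.map (W0 k).subtype, ∃ y ∈ X.map (W0 k).subtype, sv s y = x := by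
    intro x hx
    have h4 : smS s hsur (X.map (W0 k).subtype) = X.map (W0 k).subtype :=
      U.uq _ (U.toIr.smS hfr.fix hsur) (finrank_smS s hsur _)
    rw [← h4] at hx
    obtain ⟨y, hy, e⟩ := (mem_smS s).1 hx
    exact ⟨y, hy, e⟩
  have ho : ∀ x ∈ (orth (tf0 k) X).map (W0 k).subtype, ∀ y ∈ X.map (W0 k).subtype, tf x y = 0 := by
    rintro _ ⟨x, hx, rfl⟩ _ ⟨y, hy, rfl⟩
    have h5 := hx y hy
    rw [tf0_apply, tf_comm] at h5
    exact h5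
  have hbot := no_grade (P := (orth (tf0 k) X).map (W0 k).subtype) (Q := X.map (W0 k).subtype) hc hfr h2 h3
    (by rintro _ ⟨x, hx, rfl⟩; exact (mem_W0 _).1 x.2) (by rintro _ ⟨x, hx, rfl⟩; exact (mem_W0 _).1 x.2)
    (fun v hv => by
      have h5 : (⟨v, (mem_W0 v).2 hv⟩ : ↥(W0 k)) ∈ X ⊔ orth (tf0 k) X := by
        rw [codisjoint_iff.1 hcm.codisjoint]; trivial
      obtain ⟨x, hx, y, hy, e⟩ := Submodule.mem_sup.1 h5
      refine ⟨y, ⟨y, hy, rfl⟩, x, ⟨x, hx, rfl⟩, ?_⟩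
      have h6 := congrArg Subtype.val e
      rw [← show ((x + y : ↥(W0 k)) : I27 → k) = v from h6, Submodule.coe_add, add_comm]) ho
    (by rintro _ ⟨x, hx, rfl⟩ _ ⟨y, hy, rfl⟩ _ ⟨z, hz, rfl⟩; exact n1 x hx y hy z hz)
    (by rintro _ ⟨x, hx, rfl⟩ _ ⟨y, hy, rfl⟩ _ ⟨z, hz, rfl⟩; exact n2 x hx y hy z hz)
    (by
      rintro g _ ⟨x, hx, rfl⟩
      exact ⟨R0 f φ g x, S.orth_inv hX g x hx, rfl⟩)
    (by
      rintro g _ ⟨x, hx, rfl⟩
      exact ⟨R0 f φ g x, hX g x hx, rfl⟩)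
    (by
      rintro _ ⟨x, hx, rfl⟩
      have h5 : tr1 (sv s (x : I27 → k)) = 0 := by rw [sv_tr, (mem_W0 _).1 x.2, map_zero]
      refine ⟨⟨sv s x, (mem_W0 _).2 h5⟩, fun z hz => ?_, rfl⟩
      obtain ⟨z', hz', e⟩ := sQ' z ⟨z, hz, rfl⟩
      rw [tf0_apply]
      show tf (z : I27 → k) (sv s x) = 0
      rw [← show sv s z' = (z : I27 → k) from e, sv_tf, tf_comm, ho x ⟨x, hx, rfl⟩ z' hz', map_zero])
    sQ
  exact U.ne hbot

end Cfsg.Agent.R2.H27.F4Th
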