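import Cfsg.Agent.R2.H27.F4Th.Sqs

/-!
# S5931, theta types: the symmetric square of the complement (helper27)

* `sqY11` : the factors of type `[1,1,2]`, `[1,5]` of `S² (V_{4 p^r} + V_{8 p^r})`, `p ≥ 11`: only `5 p^r + p^{r+1}`, `p = 11`;
* `sqY7` : the same for `S² (2 V_{4 p^r} + V_{p^r + p^{r+1}})`, `p = 7`.
-/

set_option autoImplicit false
set_option linter.unusedSectionVars false

namespace Cfsg.Agent.R2.H27.F4Th

open Matrix Cfsg.Agent.H943.SL2Rel Cfsg.Agent.H943.SL2Mod Cfsg.Agent.H943.RepAdd Cfsg.Agent.R2.H28.SL2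
open Cfsg.Agent.R2.SL2 (typ tyl coe_tyl typ_step typ_zero tyl_eq_nil mem_typ)
open scoped TensorProduct

universe u v w

section typ

variable {p : ℕ} [hp : Fact p.Prime] {a : ℕ}

/-- the type of `b` is `[1,1,2]` or `[1,5]` -/
def Ty (p b : ℕ) : Prop := tyl p b = [1, 1, 2] ∨ tyl p b = [1, 5]

theorem not_ty_zero : ¬ Ty p 0 := by
  intro h
  have h0 : tyl p 0 = [] := tyl_eq_nil.2 rfl
  unfold Ty at h
  rw [h0] at h
  simp at h

theorem not_ty_single {n i : ℕ} (hn : n < p) : ¬ Ty p (n * p ^ i) := by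
  rcases Nat.eq_zero_or_pos n with rfl | h0
  · rw [zero_mul]
    exact not_ty_zero
  · intro h
    unfold Ty at h
    rw [tyl_single h0 hn] at h
    simp at h

theorem ty_pair {n i j : ℕ} (hp1 : 1 < p) (hn : n < p) (hij : i ≠ j) (h : Ty p (n * p ^ i + p ^ j)) : n = 5 := by
  rcases Nat.eq_zero_or_pos n with rfl | h0
  · rw [zero_mul, zero_add] at h
    have h1 := not_ty_single (p := p) (i := j) hp1
    rw [one_mul] at h1
    exact absurd h h1
  · have h1 := tyl_pair' (p := p) (n := 1) (m := n) one_pos hp1 h0 hn hij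
    rw [one_mul] at h1
    unfold Ty at h
    rw [h1] at h
    simpa using h

theorem not_ty_22 {i j : ℕ} (hp2 : 2 < p) (hij : i ≠ j) : ¬ Ty p (2 * p ^ i + 2 * p ^ j) := by
  intro h
  unfold Ty at h
  rw [tyl_pair (by norm_num) hp2 le_rfl hp2 hij] at h
  simp at h

theorem ty_one {n r c : ℕ} (ha : a ≠ 1) (hr : r < a) (hn : n + 2 ≤ 2 * p) (hc : c ∈ H28.SL2.one p a r n) (ht : Ty p c) :
    n = p + 5 ∧ c = 5 * p ^ r + p ^ ((r + 1) % a) := by
  have h1p := hp.out.one_lt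
  rcases mem_one p ha hc with ⟨h1, rfl⟩ | ⟨h1, rfl | rfl⟩
  · exact absurd ht (not_ty_single h1)
  · have h2 := ty_pair h1p (by omega) (succ_mod_ne (by omega) hr) ht
    exact ⟨by omega, by rw [h2]⟩
  · exact absurd ht (not_ty_single (by omega))

end typ

variable {k : Type u} [Field k] [DecidableEq k] {F : Type w} [Field F] [Fintype F] [DecidableEq F] (ι : F →+* k)
variable (p : ℕ) [Fact p.Prime] [CharP k p] [CharP F p] [IsAlgClosed k] {a : ℕ} (hF : Fintype.card F = p ^ a)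
variable {X : Type v} [AddCommGroup X] [Module k X] [FiniteDimensional k X]
  {σ : Representation k (SpecialLinearGroup (Fin 2) F) X} {r : ℕ}

include hF in
theorem cs_cgd {r : ℕ} (hr : r < a) (m n : ℕ) (hmn : m + n + 2 ≤ 2 * p) {z : ℂ} (hz : Zs (p ^ a) z) :
    cs k ((cgd m n).bind fun t => H28.SL2.one p a r t) z = chi m (z ^ p ^ r) * chi n (z ^ p ^ r) := by
  have hz0 := hz.ne_zero (two_le_q p hF)
  rw [cs_bind, ← sum_cgd m n (pow_ne_zero (p ^ r) hz0)]
  congr 1
  refine Multiset.map_congr rfl fun t ht => cs_one p hF hr ?_ hz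
  have := (mem_cgd ht).1
  omega

include hF

theorem cf_sqY11 (hp11 : 11 ≤ p) (hr : r < a) (h : cf (Sy.{u, v, w} ι p) σ = {4 * p ^ r, 8 * p ^ r}) :
    cf (Sy.{u, v, w} ι p) (Sq σ) =
      sqs p a r 4 + sqs p a r 8 + (cgd 4 8).bind fun t => H28.SL2.one p a r t := by
  have hpp : p.Prime := Fact.out
  refine cf_of_cs ι p hF ?_ fun z hz => ?_
  · intro b hb
    rcases Multiset.mem_add.1 hb with hb | hb
    · rcases Multiset.mem_add.1 hb with hb | hb
      · exact sqs_lt p hr 4 (by omega) b hb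
      · exact sqs_lt p hr 8 (by omega) b hb
    · obtain ⟨t, ht, hb⟩ := Multiset.mem_bind.1 hb
      have := (mem_cgd ht).1
      exact one_lt' p hr (by omega) b hb
  · rw [cs_sq ι p hF σ hz, h, cs_add, cs_add, cs_sqs p hF hr 4 (by omega) hz, cs_sqs p hF hr 8 (by omega) hz,
      cs_cgd p hF hr 4 8 (by omega) hz, Multiset.insert_eq_cons, cs_cons, cs_singleton, cs_cons, cs_singleton,
      chB_single k p (by omega), chB_single k p (by omega), chB_single k p (by omega), chB_single k p (by omega)]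
    unfold s2
    rw [← pow_mul z 2, ← pow_mul z (p ^ r) 2, mul_comm 2]
    ring

theorem sqY11 (hp11 : 11 ≤ p) (ha : a ≠ 1) (hr : r < a) (h : cf (Sy.{u, v, w} ι p) σ = {4 * p ^ r, 8 * p ^ r}) {c : ℕ}
    (hc : c ∈ cf (Sy.{u, v, w} ι p) (Sq σ)) (ht : Ty p c) : p = 11 ∧ c = 5 * p ^ r + p ^ ((r + 1) % a) := by
  rw [cf_sqY11 ι p hF hp11 hr h] at hc
  have e4 : sqs p a r 4 = H28.SL2.one p a r 8 + (H28.SL2.one p a r 4 + {0}) := rfl
  have e8 : sqs p a r 8 = H28.SL2.one p a r 16 + (H28.SL2.one p a r 12 + sqs p a r 4) := rfl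
  have key : c = 0 ∨ ∃ n, n ≤ 16 ∧ c ∈ H28.SL2.one p a r n := by
    rw [e8, e4] at hc
    simp only [Multiset.mem_add, Multiset.mem_singleton, Multiset.mem_bind] at hc
    rcases hc with ((h | h | h) | h | h | h | h | h) | ⟨t, ht, h⟩
    · exact Or.inr ⟨8, by norm_num, h⟩
    · exact Or.inr ⟨4, by norm_num, h⟩
    · exact Or.inl h
    · exact Or.inr ⟨16, by norm_num, h⟩
    · exact Or.inr ⟨12, by norm_num, h⟩
    · exact Or.inr ⟨8, by norm_num, h⟩
    · exact Or.inr ⟨4, by norm_num, h⟩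
    · exact Or.inl h
    · have := (mem_cgd ht).1
      exact Or.inr ⟨t, by omega, h⟩
  rcases key with rfl | ⟨n, hn, hc⟩
  · exact absurd ht not_ty_zero
  · obtain ⟨h1, h2⟩ := ty_one ha hr (by omega) hc ht
    exact ⟨by omega, h2⟩

theorem cf_sqY7 (hp : p = 7) (ha : a ≠ 1) (hr : r < a)
    (h : cf (Sy.{u, v, w} ι p) σ = {4 * p ^ r, 4 * p ^ r, p ^ r + p ^ ((r + 1) % a)}) :
    cf (Sy.{u, v, w} ι p) (Sq σ) = sqs p a r 4 + sqs p a r 4 + ((cgd 4 4).bind fun t => H28.SL2.one p a r t) +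
      ({5 * p ^ r + 1 * p ^ ((r + 1) % a), 3 * p ^ r + 1 * p ^ ((r + 1) % a)} : Multiset ℕ) +
      ({5 * p ^ r + 1 * p ^ ((r + 1) % a), 3 * p ^ r + 1 * p ^ ((r + 1) % a)} : Multiset ℕ) +
      ({2 * p ^ r + 2 * p ^ ((r + 1) % a), 0} : Multiset ℕ) := by
  have hpp : p.Prime := Fact.out
  have hs : r ≠ (r + 1) % a := succ_mod_ne (by omega) hr
  have hr' : (r + 1) % a < a := Nat.mod_lt _ (by omega)
  have h' : cf (Sy.{u, v, w} ι p) σ = {4 * p ^ r, 4 * p ^ r, 1 * p ^ r + 1 * p ^ ((r + 1) % a)} := by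
    rw [h, one_mul, one_mul]
  refine cf_of_cs ι p hF ?_ fun z hz => ?_
  · intro b hb
    simp only [Multiset.mem_add, Multiset.mem_bind, Multiset.insert_eq_cons, Multiset.mem_cons, Multiset.mem_singleton] at hb
    rcases hb with ((((h | h) | ⟨t, ht, h⟩) | rfl | rfl) | rfl | rfl) | rfl | rfl
    · exact sqs_lt p hr 4 (by omega) b h
    · exact sqs_lt p hr 4 (by omega) b h
    · have := (mem_cgd ht).1
      exact one_lt' p hr (by omega) b h
    · exact pair_lt p (by omega) (by omega) hs hr hr'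
    · exact pair_lt p (by omega) (by omega) hs hr hr'
    · exact pair_lt p (by omega) (by omega) hs hr hr'
    · exact pair_lt p (by omega) (by omega) hs hr hr'
    · exact pair_lt p (by omega) (by omega) hs hr hr'
    · exact Nat.pow_pos hpp.pos
  · have hz0 := hz.ne_zero (two_le_q p hF)
    have hr0 := pow_ne_zero (p ^ r) hz0
    have hr0' := pow_ne_zero (p ^ ((r + 1) % a)) hz0
    have c41 := chi_mul_one 3 hr0
    have h2a := s2_one hr0
    have h2b := s2_one hr0'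
    have ha1 := a2_one hr0
    have hb1 := a2_one hr0'
    rw [cs_sq ι p hF σ hz, h']
    simp only [Multiset.insert_eq_cons, cs_add, cs_cons, cs_singleton]
    rw [cs_sqs p hF hr 4 (by omega) hz, cs_cgd p hF hr 4 4 (by omega) hz,
      chB_single k p (by omega), chB_single k p (by omega), chB_pair k p (by omega) (by omega) hs,
      chB_pair k p (by omega) (by omega) hs, chB_pair k p (by omega) (by omega) hs, chB_pair k p (by omega) (by omega) hs,
      chB_pair k p (by omega) (by omega) hs, chB_zero]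
    unfold s2 at h2a h2b ⊢
    unfold a2 at ha1 hb1
    rw [← pow_mul z (p ^ r) 2] at h2a ha1 ⊢
    rw [← pow_mul z (p ^ ((r + 1) % a)) 2] at h2b hb1
    rw [← pow_mul z 2, ← pow_mul z 2, mul_comm 2, mul_comm 2]
    have e1 : chi 1 (z ^ (p ^ r * 2)) = chi 1 (z ^ p ^ r) ^ 2 - 2 := by linear_combination (-2 : ℂ) * ha1
    have e2 : chi 1 (z ^ (p ^ ((r + 1) % a) * 2)) = chi 1 (z ^ p ^ ((r + 1) % a)) ^ 2 - 2 := by
      linear_combination (-2 : ℂ) * hb1
    have e3 : chi 2 (z ^ p ^ r) = chi 1 (z ^ p ^ r) ^ 2 - 1 := by rw [← h2a, e1]; ring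
    have e4 : chi 2 (z ^ p ^ ((r + 1) % a)) = chi 1 (z ^ p ^ ((r + 1) % a)) ^ 2 - 1 := by rw [← h2b, e2]; ring
    have e5 : chi 5 (z ^ p ^ r) = chi 4 (z ^ p ^ r) * chi 1 (z ^ p ^ r) - chi 3 (z ^ p ^ r) := by
      linear_combination -c41
    rw [e1, e2, e3, e4, e5]
    ring

theorem sqY7 (hp : p = 7) (ha : a ≠ 1) (hr : r < a)
    (h : cf (Sy.{u, v, w} ι p) σ = {4 * p ^ r, 4 * p ^ r, p ^ r + p ^ ((r + 1) % a)}) {c : ℕ}
    (hc : c ∈ cf (Sy.{u, v, w} ι p) (Sq σ)) (ht : Ty p c) : c = 5 * p ^ r + p ^ ((r + 1) % a) := by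
  have hs : r ≠ (r + 1) % a := succ_mod_ne (by omega) hr
  rw [cf_sqY7 ι p hF hp ha hr h] at hc
  have e4 : sqs p a r 4 = H28.SL2.one p a r 8 + (H28.SL2.one p a r 4 + {0}) := rfl
  rw [e4] at hc
  simp only [Multiset.mem_add, Multiset.mem_bind, Multiset.insert_eq_cons, Multiset.mem_cons, Multiset.mem_singleton] at hc
  have key : ∀ n ≤ 8, c ∈ H28.SL2.one p a r n → c = 5 * p ^ r + p ^ ((r + 1) % a) := fun n hn h =>
    (ty_one ha hr (by omega) h ht).2
  have k3 : c ≠ 3 * p ^ r + 1 * p ^ ((r + 1) % a) := by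
    rintro rfl
    rw [one_mul] at ht
    have := ty_pair (by omega) (by omega) hs ht
    omega
  rcases hc with (((((h | h | h) | h | h | h) | ⟨t, ht', h⟩) | h | h) | h | h) | h | h
  · exact key 8 (by norm_num) h
  · exact key 4 (by norm_num) h
  · exact absurd (h ▸ ht) not_ty_zero
  · exact key 8 (by norm_num) h
  · exact key 4 (by norm_num) h
  · exact absurd (h ▸ ht) not_ty_zero
  · have := (mem_cgd ht').1
    exact key t (by omega) h
  · rw [h, one_mul]
  · exact absurd h k3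
  · rw [h, one_mul]
  · exact absurd h k3
  · exact absurd (h ▸ ht) (not_ty_22 (by omega) hs)
  · exact absurd (h ▸ ht) not_ty_zero

end Cfsg.Agent.R2.H27.F4Th
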