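import Cfsg.Agent.R2.H27.F4Th.Fin
import Cfsg.Agent.R2.H27.F4Th.SqY
import Cfsg.Agent.R2.F4L.SubD
import Cfsg.Agent.R2.H28.SL2.Dims

/-!
# S5931, theta types: the reduction by characters (helper27)

`th_n` : `N(W, W, X) = 0` if the label of `X` is not a factor of `S² W`.
`th_card`, `th_main` : the reduction to `N(Y, Y, X) = 0`, `Y = X^⊥`.
-/

set_option autoImplicit false
set_option linter.unusedSectionVars false

namespace Cfsg.Agent.R2.H27.F4Th

open Cfsg Cfsg.Lie Module Matrix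
open Cfsg.Agent.ChevalleyStructure.E6Min.Basic
open Cfsg.Agent.H952.F4 (sh cr tf tr1 u0 hF4)
open Cfsg.Agent.H952.F4.Jord
open Cfsg.Agent.H952.F4.FixV (W0 mem_W0 finrank_W0)
open Cfsg.Agent.R2.H28.SL2 Cfsg.Agent.H943.RepAdd Cfsg.Agent.H943.SL2Mod
open Cfsg.Agent.R2.F4M Cfsg.Agent.R2.F4N
open Cfsg.Agent.R2.F4T (SD Nd Iso)
open Cfsg.Agent.R2.F4L (emW stV j_stV stV_comm stV_eqv Act)
open Cfsg.Agent.R2.H1.F4 (st)
open Cfsg.Agent.R2.SL2 (typ tyl)

universe u v w

variable {F : Type u} [Field F] [Fintype F] {K : Type v} [Field K] [Fintype K] [DecidableEq K] {p a b : ℕ}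
variable {H : Subgroup ↥(chevF4.group F)} {φ : ProjectiveSpecialLinearGroup (Fin 2) K →* ↥(chevF4.group F)}
variable {k : Type u} [Field k] [DecidableEq k] {f : F →+* k} {ι : K →+* k} [Fact p.Prime] [CharP k p] [CharP K p]
variable [IsAlgClosed k]

/-- **products by characters** -/
theorem th_n (h3 : (3 : k) ≠ 0) {X : Submodule k ↥(W0 k)} {hX : ∀ g, ∀ x ∈ X, R0 f φ g x ∈ X} {c : ℕ}
    (hV : IsV (V := ↥X) ι p (subRep (R0 f φ) X hX) c) (hnd : Nd (tf0 k) X)
    {W : Submodule k ↥(W0 k)} (hW : ∀ g, ∀ x ∈ W, R0 f φ g x ∈ W)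
    (hc : c ∉ cf (Sy.{u, u, v} ι p) (Sq (V := ↥W) (subRep (R0 f φ) W hW))) :
    ∀ x ∈ W, ∀ y ∈ W, ∀ z ∈ X, tf (st (x : I27 → k) y) z = 0 := by
  intro x hx y hy z hz
  have H1 : Act (Rk f φ) := R2.F4L.act_Rk
  have h5 := th_gen ι p (sd_R0 (f := f) (φ := φ) h3) hV hnd hW hc (stV_comm (emW (f := f) (φ := φ)) h3)
    (stV_eqv (emW (f := f) (φ := φ)) H1 h3) x hx y hy z hz
  rw [tf0_apply, tf_comm] at h5
  rw [← h5]
  congr 1
  exact (j_stV (emW (f := f) (φ := φ)) h3 x y).symm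

section ty

variable {c : ℕ}

theorem card_typ (k : Type u) [Field k] [DecidableEq k] [CharP k p] (b : ℕ) :
    (Bf k b).card = ((typ p b).map (· + 1)).prod := by
  have hp : p.Prime := Fact.out
  induction b using Nat.strong_induction_on with
  | _ b ih =>
    rcases Nat.eq_zero_or_pos b with rfl | hb
    · rw [card_Bf_zero, show typ p 0 = 0 from R2.SL2.typ_zero _, Multiset.map_zero, Multiset.prod_zero]
    · rw [card_Bf_low k p b, R2.SL2.typ_step hp.one_lt (by omega), ih (b / p) (Nat.div_lt_self hb hp.one_lt)]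
      split_ifs with h
      · rw [h, zero_add, zero_add, one_mul]
      · rw [Multiset.map_add, Multiset.prod_add, Multiset.map_singleton, Multiset.prod_singleton]

theorem ty_card (ht : Ty p c) : (Bf k c).card = 12 := by
  rw [card_typ k c, ← R2.SL2.coe_tyl]
  rcases ht with h | h <;> rw [h] <;> rfl

theorem card_single {n : ℕ} (h0 : 0 < n) (hn : n < p) (i : ℕ) : (Bf k (n * p ^ i)).card = n + 1 := by
  rw [card_typ k, typ_single h0 hn]
  simp

theorem card_11 {i j : ℕ} (hp : 1 < p) (hij : i ≠ j) : (Bf k (p ^ i + p ^ j)).card = 4 := by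
  have h := typ_pair (p := p) one_pos hp one_pos hp hij
  rw [one_mul, one_mul] at h
  rw [card_typ k, h]
  rfl

end ty

/-- **the reduction, `p ≥ 11`** -/
theorem mainB (hc : Cfg p a b H φ) (hp11 : 11 ≤ p) {r : ℕ} (hr : r < a) {c : ℕ} (ht : Ty p c)
    (hcf : cf (Sy.{u, u, v} ι p) (R0 f φ) = {c, 4 * p ^ r, 8 * p ^ r}) {X : Submodule k ↥(W0 k)}
    {hX : ∀ g, ∀ x ∈ X, R0 f φ g x ∈ X} (hV : IsV (V := ↥X) ι p (subRep (R0 f φ) X hX) c) (hnd : Nd (tf0 k) X) :
    ¬ ∀ x ∈ orth (tf0 k) X, ∀ y ∈ orth (tf0 k) X, ∀ z ∈ X, tf (st (x : I27 → k) y) z = 0 := by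
  intro n1
  have h3 : (3 : k) ≠ 0 := R2.F4L.three_ne p (by omega)
  refine th_fin (ι := ι) (p := p) (X := X) hc (R2.F4L.two_ne p (by omega)) h3 hV hnd ?_ ?_ n1
    (th_n h3 hV hnd hX (not_mem_sq ι p hc.cardK (by omega) (Or.inr hp11) hV ht))
  · have e1 : c ≠ 4 * p ^ r := fun h => not_ty_single (n := 4) (i := r) (by omega) (h ▸ ht)
    have e2 : c ≠ 8 * p ^ r := fun h => not_ty_single (n := 8) (i := r) (by omega) (h ▸ ht)
    rw [hcf, Multiset.insert_eq_cons, Multiset.insert_eq_cons, Multiset.count_cons_self, Multiset.count_cons_of_ne e1,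
      Multiset.count_singleton, if_neg e2]
  · intro c' hc' h
    rw [hcf, Multiset.insert_eq_cons, Multiset.insert_eq_cons, Multiset.mem_cons, Multiset.mem_cons,
      Multiset.mem_singleton] at hc'
    rw [ty_card ht] at h
    rcases hc' with rfl | rfl | rfl
    · rfl
    · rw [card_single (by norm_num) (by omega)] at h
      omega
    · rw [card_single (by norm_num) (by omega)] at h
      omega

/-- **the reduction, `p = 7`** -/
theorem mainF (hc : Cfg p a b H φ) (hp7 : p = 7) (ha : 2 ≤ a) {r : ℕ} (hr : r < a) {c : ℕ} (ht : Ty p c)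
    (hcf : cf (Sy.{u, u, v} ι p) (R0 f φ) = {c, 4 * p ^ r, 4 * p ^ r, p ^ r + p ^ ((r + 1) % a)}) {X : Submodule k ↥(W0 k)}
    {hX : ∀ g, ∀ x ∈ X, R0 f φ g x ∈ X} (hV : IsV (V := ↥X) ι p (subRep (R0 f φ) X hX) c) (hnd : Nd (tf0 k) X) :
    ¬ ∀ x ∈ orth (tf0 k) X, ∀ y ∈ orth (tf0 k) X, ∀ z ∈ X, tf (st (x : I27 → k) y) z = 0 := by
  intro n1
  have h3 : (3 : k) ≠ 0 := R2.F4L.three_ne p (by omega)
  have hs : r ≠ (r + 1) % a := succ_mod_ne (by omega) hr
  refine th_fin (ι := ι) (p := p) (X := X) hc (R2.F4L.two_ne p (by omega)) h3 hV hnd ?_ ?_ n1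
    (th_n h3 hV hnd hX (not_mem_sq ι p hc.cardK (by omega) (Or.inl hp7) hV ht))
  · have e1 : c ≠ 4 * p ^ r := fun h => not_ty_single (n := 4) (i := r) (by omega) (h ▸ ht)
    have e2 : c ≠ p ^ r + p ^ ((r + 1) % a) := fun h => by
      have h4 := ty_card (k := k) ht
      rw [h, card_11 (by omega) hs] at h4
      omega
    rw [hcf, Multiset.insert_eq_cons, Multiset.insert_eq_cons, Multiset.insert_eq_cons, Multiset.count_cons_self,
      Multiset.count_cons_of_ne e1, Multiset.count_cons_of_ne e1, Multiset.count_singleton, if_neg e2]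
  · intro c' hc' h
    rw [hcf, Multiset.insert_eq_cons, Multiset.insert_eq_cons, Multiset.insert_eq_cons, Multiset.mem_cons,
      Multiset.mem_cons, Multiset.mem_cons, Multiset.mem_singleton] at hc'
    rw [ty_card ht] at h
    rcases hc' with rfl | rfl | rfl | rfl
    · rfl
    · rw [card_single (by norm_num) (by omega)] at h
      omega
    · rw [card_single (by norm_num) (by omega)] at h
      omega
    · rw [card_11 (by omega) hs] at h
      omega

end Cfsg.Agent.R2.H27.F4Th
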